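import Groth.Agent.FFLib.Res.Weil
import Groth.Agent.FFLib.Small

/-! Regular differentials as a Riemann-Roch space. -/

namespace Groth.Agent.FFLib

open FunFld WithZero

universe u v w

variable {k : Type u} {K : Type v} [Field k] [Field K] [Algebra k K]
  (hK : IsFunctionField k K) (hg : IsGeometric k K) (F : Place k K → Type w) [∀ P, Field (F P)]
  [∀ P, Algebra k (F P)] [∀ P, FiniteDimensional k (F P)] (φ : ∀ P, K →ₐ[k] LaurentSeries (F P))
  (hφ : ∀ P, LocRes.IsExpansionAt P.1 (φ P))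
include hK hg hφ

omit [∀ P, FiniteDimensional k (F P)] in
theorem vDiff_eq {v : K} (hv : KaehlerDifferential.D k K v ≠ 0) (y : K) (P : Place k K) :
    LocRes.vDiff (φ P) y v = P.1 y * exp (-LocRes.ordDiff (φ P) 1 v) := by
  have hd : Valued.v (dExp (φ P) v) ≠ 0 := (map_ne_zero _).mpr (dExp_ne_zero (hφ P) hK hg hv)
  rw [LocRes.ordDiff, LocRes.vDiff, LocRes.vDiff, map_mul, (hφ P).1, map_one, one_mul, neg_neg,
    exp_log (show Valued.v (LocRes.D (F P) (φ P v)) ≠ 0 from hd)]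

/-- Differentials bounded by `D` form `L(C - D)` for the divisor `C` of `dv`. -/
theorem exists_canonical_of_D_ne {v : K} (hv : KaehlerDifferential.D k K v ≠ 0) :
    ∃ C : Divisor k K, IsCanonical k K C ∧ (∀ P, C P = LocRes.ordDiff (φ P) 1 v) ∧
      ∀ D : Divisor k K, {y : K | ∀ P, LocRes.vDiff (φ P) y v ≤ exp (-(D P))} = (L (C - D) : Set K) := by
  obtain ⟨C, hC, hdiv⟩ := exists_div_resW hK hg F φ hφ one_ne_zero hv
  refine ⟨C, ⟨_, resW_ne_zero hK hg F φ hφ one_ne_zero hv, hdiv⟩, hC, fun D => ?_⟩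
  ext y
  refine forall_congr' fun P => ?_
  rw [vDiff_eq hK hg F φ hφ hv, ← hC]
  show _ ↔ P.1 y ≤ exp ((C - D) P)
  rw [show (C - D) P = C P + -(D P) from (Finsupp.sub_apply C D P).trans (sub_eq_add_neg _ _), exp_add,
    exp_neg (C P), mul_inv_le_iff₀ (zero_lt_iff.mpr exp_ne_zero), mul_comm]

end Groth.Agent.FFLib
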