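import Mathlib.LinearAlgebra.Trace
import Mathlib.LinearAlgebra.FiniteDimensional.Basic
import Mathlib.LinearAlgebra.Prod
import Mathlib.LinearAlgebra.Projection

/-! Traces of endomorphisms of finite rank, and residues of commuting operators after Tate. -/

namespace Groth.Agent.FFLib

variable {k : Type*} [Field k]
variable {M N Q V : Type*} [AddCommGroup M] [Module k M] [AddCommGroup N] [Module k N]
  [AddCommGroup Q] [Module k Q] [AddCommGroup V] [Module k V]

/-- The map has finite rank. -/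
def FinRank (X : M →ₗ[k] N) : Prop := FiniteDimensional k (LinearMap.range X)

theorem FinRank.of_le {X : M →ₗ[k] N} (W : Submodule k N) [FiniteDimensional k W]
    (h : ∀ x, X x ∈ W) : FinRank X :=
  Submodule.finiteDimensional_of_le (by rintro _ ⟨x, rfl⟩; exact h x : LinearMap.range X ≤ W)

theorem finRank_of_domain [FiniteDimensional k M] (X : M →ₗ[k] N) : FinRank X :=
  LinearMap.finiteDimensional_range X

theorem finRank_of_codomain [FiniteDimensional k N] (X : M →ₗ[k] N) : FinRank X :=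
  FinRank.of_le ⊤ fun _ => trivial

theorem finRank_zero : FinRank (0 : M →ₗ[k] N) :=
  FinRank.of_le ⊥ fun _ => by simp

theorem FinRank.add {X Y : M →ₗ[k] N} (hX : FinRank X) (hY : FinRank Y) : FinRank (X + Y) :=
  have : FiniteDimensional k (LinearMap.range X) := hX
  have : FiniteDimensional k (LinearMap.range Y) := hY
  FinRank.of_le (LinearMap.range X ⊔ LinearMap.range Y) fun x =>
    Submodule.add_mem_sup (LinearMap.mem_range_self X x) (LinearMap.mem_range_self Y x)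

theorem FinRank.neg {X : M →ₗ[k] N} (hX : FinRank X) : FinRank (-X) :=
  have : FiniteDimensional k (LinearMap.range X) := hX
  FinRank.of_le (LinearMap.range X) fun x => Submodule.neg_mem _ (LinearMap.mem_range_self X x)

theorem FinRank.sub {X Y : M →ₗ[k] N} (hX : FinRank X) (hY : FinRank Y) : FinRank (X - Y) :=
  sub_eq_add_neg X Y ▸ hX.add hY.neg

theorem finRank_sum {ι : Type*} (s : Finset ι) {X : ι → M →ₗ[k] N} (h : ∀ i ∈ s, FinRank (X i)) :
    FinRank (∑ i ∈ s, X i) := by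
  classical
  induction s using Finset.induction with
  | empty => simpa using finRank_zero
  | insert a s ha ih =>
    rw [Finset.sum_insert ha]
    exact (h a (Finset.mem_insert_self a s)).add (ih fun i hi => h i (Finset.mem_insert_of_mem hi))

theorem FinRank.comp_left {X : M →ₗ[k] N} (hX : FinRank X) (Y : N →ₗ[k] Q) : FinRank (Y ∘ₗ X) :=
  have : FiniteDimensional k (LinearMap.range X) := hX
  FinRank.of_le ((LinearMap.range X).map Y) fun x => ⟨X x, ⟨x, rfl⟩, rfl⟩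

theorem FinRank.comp_right {X : M →ₗ[k] N} (hX : FinRank X) (Y : Q →ₗ[k] M) : FinRank (X ∘ₗ Y) :=
  have : FiniteDimensional k (LinearMap.range X) := hX
  FinRank.of_le (LinearMap.range X) fun x => ⟨Y x, rfl⟩

theorem FinRank.of_comp {ι : N →ₗ[k] Q} (hι : Function.Injective ι) {X : M →ₗ[k] N}
    (h : FinRank (ι ∘ₗ X)) : FinRank X := by
  have h' : FiniteDimensional k (LinearMap.range (ι ∘ₗ X)) := h
  rw [LinearMap.range_comp] at h'
  have := h'
  exact Module.Finite.equiv (Submodule.equivMapOfInjective ι hι (LinearMap.range X)).symm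

/-- A map vanishing on a subspace of finite codimension has finite rank. -/
theorem finRank_of_vanish (B : Submodule k M) [FiniteDimensional k (M ⧸ B)] (X : M →ₗ[k] N)
    (h : B ≤ LinearMap.ker X) : FinRank X := by
  rw [← Submodule.liftQ_mkQ B X h]
  exact (finRank_of_domain (B.liftQ X h)).comp_right B.mkQ

/-- The trace of an endomorphism of finite rank. -/
noncomputable def ftr (X : M →ₗ[k] M) : k :=
  LinearMap.trace k (LinearMap.range X) (X.rangeRestrict ∘ₗ (LinearMap.range X).subtype)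

theorem ftr_eq {X : M →ₗ[k] M} (W : Submodule k M) [FiniteDimensional k W] (h : ∀ x, X x ∈ W) :
    ftr X = LinearMap.trace k W ((X.codRestrict W h) ∘ₗ W.subtype) := by
  have hle : LinearMap.range X ≤ W := by rintro _ ⟨x, rfl⟩; exact h x
  have : FiniteDimensional k (LinearMap.range X) := Submodule.finiteDimensional_of_le hle
  rw [ftr, show (X.codRestrict W h) ∘ₗ W.subtype =
      Submodule.inclusion hle ∘ₗ (X.rangeRestrict ∘ₗ W.subtype) from LinearMap.ext fun _ => rfl,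
    ← LinearMap.trace_comp_comm' (Submodule.inclusion hle) (X.rangeRestrict ∘ₗ W.subtype)]
  rfl

theorem ftr_add {X Y : M →ₗ[k] M} (hX : FinRank X) (hY : FinRank Y) : ftr (X + Y) = ftr X + ftr Y := by
  have : FiniteDimensional k (LinearMap.range X) := hX
  have : FiniteDimensional k (LinearMap.range Y) := hY
  set W := LinearMap.range X ⊔ LinearMap.range Y
  rw [ftr_eq W (fun x => Submodule.add_mem_sup (LinearMap.mem_range_self X x) (LinearMap.mem_range_self Y x)),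
    ftr_eq W (X := X) (fun x => Submodule.mem_sup_left (LinearMap.mem_range_self X x)),
    ftr_eq W (X := Y) (fun x => Submodule.mem_sup_right (LinearMap.mem_range_self Y x)), ← map_add]
  rfl

theorem ftr_neg {X : M →ₗ[k] M} (hX : FinRank X) : ftr (-X) = -ftr X := by
  have : FiniteDimensional k (LinearMap.range X) := hX
  rw [ftr_eq (LinearMap.range X) (fun x => Submodule.neg_mem _ (LinearMap.mem_range_self X x)), ftr, ← map_neg]
  rfl

theorem ftr_sub {X Y : M →ₗ[k] M} (hX : FinRank X) (hY : FinRank Y) : ftr (X - Y) = ftr X - ftr Y := by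
  rw [sub_eq_add_neg, ftr_add hX hY.neg, ftr_neg hY, ← sub_eq_add_neg]

theorem ftr_zero : ftr (0 : M →ₗ[k] M) = 0 := by
  rw [ftr_eq ⊥ (X := (0 : M →ₗ[k] M)) (fun _ => by simp)]
  exact (congrArg _ (LinearMap.ext fun _ => Subtype.ext (by simp))).trans (map_zero _)

theorem ftr_sum {ι : Type*} (s : Finset ι) {X : ι → M →ₗ[k] M} (h : ∀ i ∈ s, FinRank (X i)) :
    ftr (∑ i ∈ s, X i) = ∑ i ∈ s, ftr (X i) := by
  classical
  induction s using Finset.induction with
  | empty => simpa using ftr_zero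
  | insert a s ha ih =>
    rw [Finset.sum_insert ha, Finset.sum_insert ha,
      ftr_add (h a (Finset.mem_insert_self a s))
        (finRank_sum s fun i hi => h i (Finset.mem_insert_of_mem hi)),
      ih fun i hi => h i (Finset.mem_insert_of_mem hi)]

theorem ftr_of_finite [FiniteDimensional k M] (X : M →ₗ[k] M) : ftr X = LinearMap.trace k M X := by
  exact LinearMap.trace_comp_comm' (LinearMap.range X).subtype X.rangeRestrict

/-- Cyclicity. -/
theorem ftr_comm {X : M →ₗ[k] N} (hX : FinRank X) (Y : N →ₗ[k] M) : ftr (X ∘ₗ Y) = ftr (Y ∘ₗ X) := by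
  have : FiniteDimensional k (LinearMap.range X) := hX
  set W := LinearMap.range X
  set W' := W.map Y
  rw [ftr_eq W (X := X ∘ₗ Y) (fun x => ⟨Y x, rfl⟩), ftr_eq W' (X := Y ∘ₗ X) (fun x => ⟨X x, ⟨x, rfl⟩, rfl⟩)]
  let Y' : W →ₗ[k] W' := (Y ∘ₗ W.subtype).codRestrict W' fun w => ⟨w, w.2, rfl⟩
  let X' : W' →ₗ[k] W := (X ∘ₗ W'.subtype).codRestrict W fun w => ⟨w, rfl⟩
  have h := LinearMap.trace_comp_comm' Y' X'
  exact (congrArg _ (LinearMap.ext fun _ => rfl)).trans (h.trans (congrArg _ (LinearMap.ext fun _ => rfl)))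

/-- The trace can be computed on any subspace containing the image. -/
theorem ftr_restrict {j : Q →ₗ[k] M} (hj : Function.Injective j) {X : M →ₗ[k] M} {X' : Q →ₗ[k] Q}
    (hX : FinRank X) (h : X ∘ₗ j = j ∘ₗ X') (hr : ∀ x, X x ∈ LinearMap.range j) : ftr X = ftr X' := by
  let u : M →ₗ[k] Q := (LinearEquiv.ofInjective j hj).symm.toLinearMap ∘ₗ X.codRestrict _ hr
  have hju : j ∘ₗ u = X := LinearMap.ext fun x => by
    show j ((LinearEquiv.ofInjective j hj).symm ⟨X x, hr x⟩) = X x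
    have e := (LinearEquiv.ofInjective j hj).apply_symm_apply ⟨X x, hr x⟩
    exact congrArg Subtype.val e
  have huj : u ∘ₗ j = X' := by
    refine LinearMap.ext fun x => hj ?_
    show (j ∘ₗ u) (j x) = j (X' x)
    rw [hju]
    exact LinearMap.congr_fun h x
  rw [← hju, ← huj]
  exact (ftr_comm (FinRank.of_comp hj (hju ▸ hX)) j).symm

variable {f g : V →ₗ[k] V} {ι : M →ₗ[k] V}

/-- `T` agrees with `f` on `ι` up to finite rank. -/
def IsLift (ι : M →ₗ[k] V) (f : V →ₗ[k] V) (T : M →ₗ[k] M) : Prop := FinRank (f ∘ₗ ι - ι ∘ₗ T)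

theorem finRank_commutator (hι : Function.Injective ι) (hfg : f ∘ₗ g = g ∘ₗ f) {T S : M →ₗ[k] M}
    (hT : IsLift ι f T) (hS : IsLift ι g S) : FinRank (T ∘ₗ S - S ∘ₗ T) := by
  refine FinRank.of_comp hι ?_
  have e : ι ∘ₗ (T ∘ₗ S - S ∘ₗ T) =
      -((f ∘ₗ ι - ι ∘ₗ T) ∘ₗ S) - f ∘ₗ (g ∘ₗ ι - ι ∘ₗ S) + (g ∘ₗ ι - ι ∘ₗ S) ∘ₗ T +
        g ∘ₗ (f ∘ₗ ι - ι ∘ₗ T) := by
    refine LinearMap.ext fun x => ?_
    have h := LinearMap.congr_fun hfg (ι x)
    simp only [LinearMap.comp_apply] at h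
    simp only [LinearMap.comp_apply, LinearMap.sub_apply, LinearMap.add_apply, LinearMap.neg_apply,
      map_sub, h]
    abel
  rw [e]
  exact (((hT.comp_right S).neg.sub (hS.comp_left f)).add (hS.comp_right T)).add (hT.comp_left g)

theorem ftr_commutator_congr_left (hι : Function.Injective ι) (hfg : f ∘ₗ g = g ∘ₗ f)
    {T T' S : M →ₗ[k] M} (hT : IsLift ι f T) (hT' : IsLift ι f T') (hS : IsLift ι g S) :
    ftr (T' ∘ₗ S - S ∘ₗ T') = ftr (T ∘ₗ S - S ∘ₗ T) := by
  have hX : FinRank (T' - T) := by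
    refine FinRank.of_comp hι ?_
    rw [show ι ∘ₗ (T' - T) = (f ∘ₗ ι - ι ∘ₗ T) - (f ∘ₗ ι - ι ∘ₗ T') by
      refine LinearMap.ext fun x => ?_
      simp only [LinearMap.comp_apply, LinearMap.sub_apply, map_sub]
      abel]
    exact hT.sub hT'
  rw [show T' ∘ₗ S - S ∘ₗ T' = (T ∘ₗ S - S ∘ₗ T) + ((T' - T) ∘ₗ S - S ∘ₗ (T' - T)) by
      refine LinearMap.ext fun x => ?_
      simp only [LinearMap.comp_apply, LinearMap.sub_apply, LinearMap.add_apply, map_sub]
      abel,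
    ftr_add (finRank_commutator hι hfg hT hS) ((hX.comp_right S).sub (hX.comp_left S)),
    ftr_sub (hX.comp_right S) (hX.comp_left S), ftr_comm hX S, sub_self, add_zero]

/-- The residue does not depend on the lifts. -/
theorem ftr_commutator_congr (hι : Function.Injective ι) (hfg : f ∘ₗ g = g ∘ₗ f)
    {T T' S S' : M →ₗ[k] M} (hT : IsLift ι f T) (hT' : IsLift ι f T') (hS : IsLift ι g S)
    (hS' : IsLift ι g S') :
    ftr (T' ∘ₗ S' - S' ∘ₗ T') = ftr (T ∘ₗ S - S ∘ₗ T) := by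
  rw [ftr_commutator_congr_left hι hfg hT hT' hS',
    ← neg_sub (S' ∘ₗ T), ftr_neg (finRank_commutator hι hfg.symm hS' hT),
    ftr_commutator_congr_left hι hfg.symm hS hS' hT, ← ftr_neg (finRank_commutator hι hfg.symm hS hT),
    neg_sub]

variable {W : Type*} [AddCommGroup W] [Module k W]

/-- Tate's theorem: the residue of a subspace complementary, up to finite dimension, to an invariant
subspace is zero. -/
theorem ftr_commutator_eq_zero {ιW : W →ₗ[k] V} (hfg : f ∘ₗ g = g ∘ₗ f) (hι : Function.Injective ι)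
    (fW gW : W →ₗ[k] W) (hfW : f ∘ₗ ιW = ιW ∘ₗ fW) (hgW : g ∘ₗ ιW = ιW ∘ₗ gW)
    (hfgW : fW ∘ₗ gW = gW ∘ₗ fW)
    [FiniteDimensional k (LinearMap.ker (ι.coprod ιW))]
    [FiniteDimensional k (V ⧸ LinearMap.range (ι.coprod ιW))]
    {T S : M →ₗ[k] M} (hT : IsLift ι f T) (hS : IsLift ι g S) :
    ftr (T ∘ₗ S - S ∘ₗ T) = 0 := by
  set σ := ι.coprod ιW with hσ
  set B := LinearMap.range σ
  obtain ⟨s, hs⟩ := σ.rangeRestrict.exists_rightInverse_of_surjective σ.range_rangeRestrict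
  obtain ⟨p, hp⟩ := B.subtype.exists_leftInverse_of_injective B.ker_subtype
  set σr := σ.rangeRestrict with hσr
  set q : M × W →ₗ[k] M × W := LinearMap.id - s ∘ₗ σr with hqdef
  have hq : FinRank q := FinRank.of_le (LinearMap.ker σ) fun x => by
    rw [LinearMap.mem_ker, hqdef, LinearMap.sub_apply, map_sub, sub_eq_zero]
    exact (congrArg Subtype.val (LinearMap.congr_fun hs (σr x))).symm
  clear_value q
  have h1 : FinRank (LinearMap.id - B.subtype ∘ₗ p : V →ₗ[k] V) :=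
    finRank_of_vanish B _ fun b hb => by
      have := congrArg Subtype.val (LinearMap.congr_fun hp ⟨b, hb⟩)
      simpa [sub_eq_zero] using this.symm
  let T₁ : M × W →ₗ[k] M × W := T.prodMap fW
  let S₁ : M × W →ₗ[k] M × W := S.prodMap gW
  have lift : ∀ (h : V →ₗ[k] V) (R : M →ₗ[k] M) (hW : W →ₗ[k] W), IsLift ι h R →
      h ∘ₗ ιW = ιW ∘ₗ hW →
      IsLift (LinearMap.id : V →ₗ[k] V) h (B.subtype ∘ₗ σr ∘ₗ (R.prodMap hW) ∘ₗ s ∘ₗ p) := by
    intro h R hW hR hhW
    have e : h ∘ₗ LinearMap.id - LinearMap.id ∘ₗ (B.subtype ∘ₗ σr ∘ₗ (R.prodMap hW) ∘ₗ s ∘ₗ p) =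
        h ∘ₗ (LinearMap.id - B.subtype ∘ₗ p) +
          ((h ∘ₗ ι - ι ∘ₗ R) ∘ₗ LinearMap.fst k M W) ∘ₗ (s ∘ₗ p) := by
      refine LinearMap.ext fun v => ?_
      have e1 : σ (s (p v)) = (p v : V) := congrArg Subtype.val (LinearMap.congr_fun hs (p v))
      have e2 : ∀ w, h (ιW w) = ιW (hW w) := LinearMap.congr_fun hhW
      simp only [LinearMap.comp_apply, LinearMap.sub_apply, LinearMap.add_apply, LinearMap.id_coe, id_eq,
        map_sub, Submodule.subtype_apply, LinearMap.fst_apply]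
      rw [← e1, show ∀ y, ((σr y : B) : V) = σ y from fun _ => rfl, show ∀ y, σ y = ι y.1 + ιW y.2 from fun _ => rfl,
        show ∀ y, σ y = ι y.1 + ιW y.2 from fun _ => rfl, LinearMap.prodMap_apply, map_add, e2]
      abel
    show FinRank _
    rw [e]
    exact (h1.comp_left h).add ((hR.comp_right _).comp_right _)
  have hC : FinRank (T ∘ₗ S - S ∘ₗ T) := finRank_commutator hι hfg hT hS
  have hC1eq : T₁ ∘ₗ S₁ - S₁ ∘ₗ T₁ =
      LinearMap.inl k M W ∘ₗ (T ∘ₗ S - S ∘ₗ T) ∘ₗ LinearMap.fst k M W := by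
    refine LinearMap.ext fun x => Prod.ext rfl ?_
    simp only [T₁, S₁, LinearMap.sub_apply, LinearMap.comp_apply, LinearMap.prodMap_apply,
      LinearMap.inl_apply, Prod.snd_sub]
    exact sub_eq_zero.mpr (LinearMap.congr_fun hfgW x.2)
  have hC1 : FinRank (T₁ ∘ₗ S₁ - S₁ ∘ₗ T₁) := hC1eq ▸ (hC.comp_right _).comp_left _
  have htrC1 : ftr (T₁ ∘ₗ S₁ - S₁ ∘ₗ T₁) = ftr (T ∘ₗ S - S ∘ₗ T) := by
    rw [hC1eq, ← ftr_comm (hC.comp_right _) (LinearMap.inl k M W), LinearMap.comp_assoc,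
      LinearMap.fst_comp_inl, LinearMap.comp_id]
  set T₂ := B.subtype ∘ₗ σr ∘ₗ T₁ ∘ₗ s ∘ₗ p
  set S₂ := B.subtype ∘ₗ σr ∘ₗ S₁ ∘ₗ s ∘ₗ p
  have hzero : ftr (T₂ ∘ₗ S₂ - S₂ ∘ₗ T₂) = 0 := by
    rw [ftr_commutator_congr (f := f) (g := g) Function.injective_id hfg (T := f) (S := g)
        (by show FinRank _; simpa using finRank_zero) (lift f T fW hT hfW)
        (by show FinRank _; simpa using finRank_zero) (lift g S gW hS hgW),
      sub_eq_zero.mpr hfg, ftr_zero]
  -- compare the two commutators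
  have hpι : p ∘ₗ B.subtype = LinearMap.id := hp
  set A := B.subtype ∘ₗ σr
  set C := s ∘ₗ p
  have hCA : C ∘ₗ A = LinearMap.id - q := by
    refine LinearMap.ext fun x => ?_
    have := LinearMap.congr_fun hpι (σr x)
    simp only [LinearMap.comp_apply, LinearMap.id_coe, id_eq] at this
    simp only [C, A, hqdef, LinearMap.comp_apply, this,
      sub_sub_cancel]
  have hD1 : FinRank (T₁ ∘ₗ q ∘ₗ S₁) := (hq.comp_right _).comp_left _
  have hD2 : FinRank (S₁ ∘ₗ q ∘ₗ T₁) := (hq.comp_right _).comp_left _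
  set D := (T₁ ∘ₗ S₁ - S₁ ∘ₗ T₁) - T₁ ∘ₗ q ∘ₗ S₁ + S₁ ∘ₗ q ∘ₗ T₁ with hD
  have hDfin : FinRank D := (hC1.sub hD1).add hD2
  have e2 : T₂ ∘ₗ S₂ - S₂ ∘ₗ T₂ = A ∘ₗ D ∘ₗ C := by
    have t2 : T₂ = A ∘ₗ T₁ ∘ₗ C := rfl
    have s2 : S₂ = A ∘ₗ S₁ ∘ₗ C := rfl
    refine LinearMap.ext fun v => ?_
    have hca : ∀ x, C (A x) = x - q x := LinearMap.congr_fun hCA
    simp only [t2, s2, hD, LinearMap.comp_apply, LinearMap.sub_apply, LinearMap.add_apply, hca, map_sub,
      map_add]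
    abel
  have e3 : ftr (A ∘ₗ D ∘ₗ C) = ftr D - ftr (D ∘ₗ q) := by
    rw [← ftr_comm (hDfin.comp_right C) A, LinearMap.comp_assoc, hCA, LinearMap.comp_sub, LinearMap.comp_id,
      ftr_sub hDfin (hq.comp_left D)]
  rw [e2, e3] at hzero
  have a1 : ftr (T₁ ∘ₗ q ∘ₗ S₁) = ftr (q ∘ₗ S₁ ∘ₗ T₁) :=
    (ftr_comm (hq.comp_right S₁) T₁).symm.trans (by rw [LinearMap.comp_assoc])
  have a2 : ftr (S₁ ∘ₗ q ∘ₗ T₁) = ftr (q ∘ₗ T₁ ∘ₗ S₁) :=
    (ftr_comm (hq.comp_right T₁) S₁).symm.trans (by rw [LinearMap.comp_assoc])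
  have a3 : ftr ((T₁ ∘ₗ S₁ - S₁ ∘ₗ T₁) ∘ₗ q) = ftr (q ∘ₗ T₁ ∘ₗ S₁) - ftr (q ∘ₗ S₁ ∘ₗ T₁) := by
    rw [← ftr_comm hq, LinearMap.comp_sub, ftr_sub (hq.comp_right _) (hq.comp_right _)]
  have a4 : ftr ((T₁ ∘ₗ q ∘ₗ S₁) ∘ₗ q) = ftr ((S₁ ∘ₗ q ∘ₗ T₁) ∘ₗ q) := by
    have h := ftr_comm (hq.comp_left S₁) (T₁ ∘ₗ q)
    simp only [LinearMap.comp_assoc] at h ⊢
    exact h.symm
  rw [hD, ftr_add (hC1.sub hD1) hD2, ftr_sub hC1 hD1, LinearMap.add_comp, LinearMap.sub_comp,
    ftr_add ((hC1.comp_right q).sub (hD1.comp_right q)) (hD2.comp_right q),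
    ftr_sub (hC1.comp_right q) (hD1.comp_right q), a1, a2, a3, a4, htrC1] at hzero
  linear_combination hzero

end Groth.Agent.FFLib
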