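import Groth.Agent.FFLib.Res.LaurentTate
import Groth.Agent.FFLib.RR

/-! The residue theorem for residues read through expansions, after Tate. -/

namespace Groth.Agent.FFLib

open FunFld WithZero

universe u v w

variable {k : Type u} {K : Type v} [Field k] [Field K] [Algebra k K]
variable {F : Type w} [Field F] [Algebra k F]

theorem map_smul_laurent (φ : K →ₐ[k] LaurentSeries F) (c : k) (x : K) : φ (c • x) = c • φ x := by
  rw [Algebra.smul_def, map_mul, LocRes.map_algebraMap, HahnSeries.C_mul_eq_smul, algebraMap_smul]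

/-- An expansion as a linear map. -/
noncomputable def phiL (φ : K →ₐ[k] LaurentSeries F) : K →ₗ[k] LaurentSeries F where
  toFun := φ
  map_add' := map_add φ
  map_smul' := map_smul_laurent φ

theorem mem_ball_zero {P : Place k K} {x : K} : x ∈ ball P 0 ↔ P.1 x ≤ 1 := by
  show P.1 x ≤ exp 0 ↔ _
  rw [exp_zero]

section Local

variable {P : Place k K} {φ : K →ₐ[k] LaurentSeries F} (hφ : LocRes.IsExpansionAt P.1 φ)
include hφ

theorem low_map_iff (x : K) (d : ℤ) : Low (φ x) d ↔ P.1 x ≤ exp (-d) := by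
  rw [low_iff_val, hφ.1]

theorem low_map_zero_iff (x : K) : Low (φ x) 0 ↔ P.1 x ≤ 1 := by
  rw [low_map_iff hφ, neg_zero, exp_zero]

/-- The residue of a regular differential vanishes. -/
theorem resExp_eq_zero {u v : K} (hu : P.1 u ≤ 1) (hv : P.1 v ≤ 1) : LocRes.resExp φ u v = 0 := by
  obtain ⟨G, hG⟩ := (LaurentSeries.val_le_one_iff_eq_coe F (φ v)).mp ((hφ.1 v).trans_le hv)
  have h1 : Low (LocRes.D F (φ v)) 0 := by rw [← hG, LocRes.D_coe]; exact low_coe _
  exact (((low_map_zero_iff hφ u).mpr hu).mul h1) (-1) (by omega)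

theorem exists_approx_laurent (M : ℕ) {z : LaurentSeries F} (hz : Low z (-(M : ℤ))) :
    ∃ y : K, Low (z - φ y) 0 := by
  induction M generalizing z with
  | zero => exact ⟨0, by simpa using hz⟩
  | succ M ih =>
    obtain ⟨t, ht⟩ := hφ.2.2
    set e : ℤ := -((M : ℤ) + 1)
    have hs : P.1 (t ^ e) = exp (-e) := by
      rw [map_zpow₀, ht, ← exp_zsmul]; congr 1; simp
    have hls : Low (φ (t ^ e)) e := (low_map_iff hφ _ _).mpr hs.le
    have hse : (φ (t ^ e)).coeff e ≠ 0 := fun h0 => by
      have h := (low_map_iff hφ (t ^ e) (e + 1)).mp fun i hi => by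
        rcases eq_or_lt_of_le (Int.lt_add_one_iff.mp hi) with rfl | hlt
        · exact h0
        · exact hls i hlt
      rw [hs, exp_le_exp] at h
      omega
    obtain ⟨f, hf, hf0⟩ := hφ.2.1 (z.coeff e / (φ (t ^ e)).coeff e)
    have hlf : Low (φ f - HahnSeries.C ((φ f).coeff 0)) 1 := fun i hi => by
      rw [HahnSeries.coeff_sub, HahnSeries.C_apply, HahnSeries.coeff_single]
      rcases eq_or_lt_of_le (Int.lt_add_one_iff.mp (by omega : i < (0 : ℤ) + 1)) with h | h
      · subst h; simp
      · rw [(low_map_zero_iff hφ f).mpr hf i h, if_neg h.ne, sub_zero]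
    have h1 : Low (z - φ (f * t ^ e)) (-(M : ℤ)) := fun i hi => by
      have hd : z - φ (f * t ^ e) = (z - HahnSeries.C ((φ f).coeff 0) * φ (t ^ e)) -
          (φ f - HahnSeries.C ((φ f).coeff 0)) * φ (t ^ e) := by rw [map_mul]; ring
      rw [hd, HahnSeries.coeff_sub, (hlf.mul hls) i (by omega), sub_zero, HahnSeries.coeff_sub,
        HahnSeries.C_mul_eq_smul, HahnSeries.coeff_smul, smul_eq_mul, hf0]
      rcases lt_or_ge i e with h | h
      · rw [hz i (by omega), hls i h, mul_zero, sub_zero]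
      · have : i = e := by omega
        subst this
        rw [div_mul_cancel₀ _ hse, sub_self]
    obtain ⟨y, hy⟩ := ih h1
    exact ⟨f * t ^ e + y, by rw [map_add, ← sub_sub]; exact hy⟩

variable [FiniteDimensional k F]

/-- Tate's local residue is the residue read through the expansion. -/
theorem exists_lifts (u v : K) :
    ∃ T S : ball P 0 →ₗ[k] ball P 0, IsLift (ball P 0).subtype (LinearMap.mulLeft k u) T ∧
      IsLift (ball P 0).subtype (LinearMap.mulLeft k v) S ∧
      ftr (T ∘ₗ S - S ∘ₗ T) = LocRes.locRes φ u v := by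
  classical
  obtain ⟨Mu, hMu⟩ := exists_low (φ u)
  obtain ⟨Mv, hMv⟩ := exists_low (φ v)
  set M := Mu + Mv
  have hσ : ∀ c : Fin M → F, ∃ y : K, Low (negMap M c - φ y) 0 := fun c => by
    refine exists_approx_laurent hφ M fun i hi => ?_
    show (∑ l : Fin M, HahnSeries.single (-((l : ℕ) : ℤ) - 1) (c l)).coeff i = 0
    rw [HahnSeries.coeff_sum]
    exact Finset.sum_eq_zero fun l _ => HahnSeries.coeff_single_of_ne (by omega)
  choose σ₀ hσ₀ using hσ
  let b := Module.finBasis k (Fin M → F)
  let σ : (Fin M → F) →ₗ[k] K := b.constr k fun i => σ₀ (b i)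
  have hσl : ∀ c, Low (negMap M c - φ (σ c)) 0 := by
    intro c
    rw [← b.sum_repr c]
    have e : negMap M (∑ i, b.repr c i • b i) - φ (σ (∑ i, b.repr c i • b i)) =
        ∑ i, b.repr c i • (negMap M (b i) - φ (σ₀ (b i))) := by
      rw [← LinearMap.coe_restrictScalars k (negMap M), map_sum, map_sum, map_sum, ← Finset.sum_sub_distrib]
      refine Finset.sum_congr rfl fun i _ => ?_
      rw [map_smul, map_smul, Module.Basis.constr_basis, map_smul_laurent, smul_sub]
    rw [e]
    intro i hi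
    rw [HahnSeries.coeff_sum]
    refine Finset.sum_eq_zero fun l _ => ?_
    rw [HahnSeries.coeff_smul, hσ₀ (b l) i hi, smul_zero]
  have hcorr : ∀ (x : K), Low (φ x) (-(M : ℤ)) → ∀ p : PowerSeries F,
      Low (φ x * coeL F p - φ (σ (negPart M (φ x * coeL F p)))) 0 := by
    intro x hx p
    conv => arg 1; arg 1; rw [← decomp (M := M) ((hx.mul (low_coeL p)).mono (by omega))]
    intro i hi
    rw [HahnSeries.coeff_sub, HahnSeries.coeff_add, low_coeL _ i hi, zero_add, ← HahnSeries.coeff_sub]
    exact hσl _ i hi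
  -- lifts on the valuation ring
  let N : K → (ball P 0 →ₗ[k] (Fin M → F)) := fun x =>
    (negPart M).restrictScalars k ∘ₗ (mulF (φ x)).restrictScalars k ∘ₗ phiL φ ∘ₗ (ball P 0).subtype
  let R : ∀ x : K, Low (φ x) (-(M : ℤ)) → (ball P 0 →ₗ[k] ball P 0) := fun x hx =>
    (LinearMap.mulLeft k x ∘ₗ (ball P 0).subtype - σ ∘ₗ N x).codRestrict (ball P 0) fun a => by
      rw [mem_ball_zero, ← low_map_zero_iff hφ]
      show Low (φ (x * a.1 - σ (negPart M (φ x * φ a.1)))) 0
      rw [map_sub, map_mul]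
      have ha : coeL F (pos F (φ a.1)) = φ a.1 :=
        coeL_pos ((low_map_zero_iff hφ _).mpr (mem_ball_zero.mp a.2))
      rw [← ha]
      exact hcorr x hx _
  have hu : Low (φ u) (-(M : ℤ)) := hMu.mono (by omega)
  have hv : Low (φ v) (-(M : ℤ)) := hMv.mono (by omega)
  have hliftR : ∀ x hx, IsLift (ball P 0).subtype (LinearMap.mulLeft k x) (R x hx) := fun x hx => by
    show FinRank _
    rw [show LinearMap.mulLeft k x ∘ₗ (ball P 0).subtype - (ball P 0).subtype ∘ₗ R x hx = σ ∘ₗ N x from
      LinearMap.ext fun a => sub_sub_cancel (x * a.1) _]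
    exact FinRank.comp_right (finRank_of_domain (M := Fin M → F) σ) _
  -- lifts on power series
  let mk : K → (PowerSeries F →ₗ[k] LaurentSeries F) := fun x =>
    (mulF (φ x)).restrictScalars k ∘ₗ (coeL F).restrictScalars k
  let G : K → (PowerSeries F →ₗ[k] LaurentSeries F) := fun x =>
    mk x - phiL φ ∘ₗ σ ∘ₗ (negPart M).restrictScalars k ∘ₗ mk x
  let R' : K → (PowerSeries F →ₗ[k] PowerSeries F) := fun x => (pos F).restrictScalars k ∘ₗ G x
  have hR' : ∀ x, Low (φ x) (-(M : ℤ)) → ∀ p,
      coeL F (R' x p) = φ x * coeL F p - φ (σ (negPart M (φ x * coeL F p))) := fun x hx p =>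
    coeL_pos (hcorr x hx p)
  have hliftR' : ∀ x, Low (φ x) (-(M : ℤ)) →
      IsLift ((coeL F).restrictScalars k) ((mulF (φ x)).restrictScalars k) (R' x) := fun x hx => by
    show FinRank _
    rw [show (mulF (φ x)).restrictScalars k ∘ₗ (coeL F).restrictScalars k -
      (coeL F).restrictScalars k ∘ₗ R' x = (phiL φ ∘ₗ σ) ∘ₗ (negPart M).restrictScalars k ∘ₗ mk x from
      LinearMap.ext fun p => by
        show φ x * coeL F p - coeL F (R' x p) = φ (σ (negPart M (φ x * coeL F p)))
        rw [hR' x hx p, sub_sub_cancel]]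
    exact FinRank.comp_right (finRank_of_domain (M := Fin M → F) (phiL φ ∘ₗ σ)) _
  have hcomm : (mulF (φ u)).restrictScalars k ∘ₗ (mulF (φ v)).restrictScalars k =
      (mulF (φ v)).restrictScalars k ∘ₗ (mulF (φ u)).restrictScalars k :=
    LinearMap.ext fun z => mul_left_comm (φ u) (φ v) z
  have htr : ftr (R' u ∘ₗ R' v - R' v ∘ₗ R' u) = LocRes.locRes φ u v := by
    rw [ftr_commutator_congr (ι := (coeL F).restrictScalars k) coeL_injective hcomm
      (isLift_That (φ u)) (hliftR' u hu) (isLift_That (φ v)) (hliftR' v hv), ftr_That]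
    rfl
  let j : ball P 0 →ₗ[k] PowerSeries F := (pos F).restrictScalars k ∘ₗ phiL φ ∘ₗ (ball P 0).subtype
  have hj : ∀ a, coeL F (j a) = φ a.1 := fun a =>
    coeL_pos ((low_map_zero_iff hφ _).mpr (mem_ball_zero.mp a.2))
  have hjinj : Function.Injective j := fun a b h => by
    have h1 : φ a.1 = φ b.1 := by rw [← hj, h, hj]
    exact Subtype.ext (φ.injective h1)
  have hRj : ∀ x hx a, R' x (j a) = j (R x hx a) := fun x hx a => by
    apply coeL_injective
    rw [hR' x hx, hj, hj]
    exact ((map_sub φ _ _).trans (congrArg₂ (fun a b : LaurentSeries F => a - b) (map_mul φ x a.1) rfl)).symm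
  refine ⟨R u hu, R v hv, hliftR u hu, hliftR v hv, ?_⟩
  rw [← htr]
  refine (ftr_restrict hjinj ?_ ?_ ?_).symm
  · exact finRank_commutator coeL_injective hcomm (hliftR' u hu) (hliftR' v hv)
  · refine LinearMap.ext fun a => ?_
    simp only [LinearMap.comp_apply, LinearMap.sub_apply, map_sub, hRj u hu, hRj v hv]
  · intro p
    let n1 := negPart M (φ v * coeL F p)
    let n2 := negPart M (φ u * coeL F (R' v p))
    let n3 := negPart M (φ u * coeL F p)
    let n4 := negPart M (φ v * coeL F (R' u p))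
    have hp : coeL F ((R' u ∘ₗ R' v - R' v ∘ₗ R' u) p) =
        φ (-(u * σ n1) - σ n2 + v * σ n3 + σ n4) := by
      show coeL F (R' u (R' v p) - R' v (R' u p)) = _
      rw [map_sub, hR' u hu (R' v p), hR' v hv (R' u p)]
      simp only [n1, n2, n3, n4, map_add, map_sub, map_neg, map_mul]
      rw [hR' v hv p, hR' u hu p]
      ring
    have hmem : -(u * σ n1) - σ n2 + v * σ n3 + σ n4 ∈ ball P 0 := by
      rw [mem_ball_zero, ← low_map_zero_iff hφ, ← hp]
      exact low_coeL _
    exact ⟨⟨_, hmem⟩, coeL_injective ((hj _).trans hp.symm)⟩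

end Local

section Global

variable (hK : IsFunctionField k K) (F : Place k K → Type w) [∀ P, Field (F P)] [∀ P, Algebra k (F P)]
  [∀ P, FiniteDimensional k (F P)] (φ : ∀ P, K →ₐ[k] LaurentSeries (F P))
  (hφ : ∀ P, LocRes.IsExpansionAt P.1 (φ P))
include hK hφ

omit [∀ P, FiniteDimensional k (F P)] in
theorem finite_resExp (a : Place k K → K) (ha : a ∈ adele k K) (v : K) :
    {P : Place k K | LocRes.resExp (φ P) (a P) v ≠ 0}.Finite := by
  refine ((mem_adele.mp ha).union (mem_adele.mp (diag_mem_adele hK.1 ⟨v, rfl⟩))).subset fun P hP => ?_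
  by_contra h
  simp only [Set.mem_union, Set.mem_ofPred_eq, not_or, not_not, diag_apply] at h
  exact hP (resExp_eq_zero (hφ P) h.1 h.2)

omit [∀ P, FiniteDimensional k (F P)] in
theorem finite_locRes (a : Place k K → K) (ha : a ∈ adele k K) (v : K) :
    (Function.support fun P => LocRes.locRes (φ P) (a P) v).Finite :=
  (finite_resExp hK F φ hφ a ha v).subset fun P hP h => hP (by
    show LocRes.locRes (φ P) (a P) v = 0
    rw [LocRes.locRes, h, map_zero])

/-- The residue theorem. -/
theorem sum_locRes (u v : K) : ∑ᶠ P, LocRes.locRes (φ P) u v = 0 := by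
  classical
  choose T S hT hS hTS using fun P => exists_lifts (hφ P) u v
  have hbad : ∀ x : K, {P : Place k K | ¬ P.1 x ≤ 1}.Finite := fun x =>
    mem_adele.mp (diag_mem_adele hK.1 ⟨x, rfl⟩)
  let s := ((hbad u).union (hbad v)).toFinset
  have hgood : ∀ P ∉ s, P.1 u ≤ 1 ∧ P.1 v ≤ 1 := fun P hP => by
    simpa [s, not_or] using hP
  rw [finsum_eq_finsetSum_of_support_subset _ (s := s) fun P hP => by
    by_contra h
    refine hP ?_
    show LocRes.locRes (φ P) u v = 0
    rw [LocRes.locRes, resExp_eq_zero (hφ P) (hgood P h).1 (hgood P h).2, map_zero]]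
  let A := AD (0 : Divisor k K)
  have hA : ∀ (a : A) P, a.1 P ∈ ball P 0 := fun a P => by
    have := a.2 P
    rwa [Finsupp.zero_apply] at this
  let ev : ∀ P, A →ₗ[k] ball P 0 := fun P =>
    ((LinearMap.proj P).comp A.subtype).codRestrict (ball P 0) fun a => hA a P
  let inP : ∀ P, ball P 0 →ₗ[k] A := fun P =>
    ((LinearMap.single k (fun _ : Place k K => K) P).comp (ball P 0).subtype).codRestrict A fun z Q => by
      show Q.1 ((Pi.single P z.1 : Place k K → K) Q) ≤ _
      rcases eq_or_ne Q P with rfl | h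
      · simpa using mem_ball_zero.mp z.2
      · simp [h]
  let inV : ∀ _ : Place k K, K →ₗ[k] adele k K := fun P =>
    (LinearMap.single k (fun _ : Place k K => K) P).codRestrict (adele k K) fun z => mem_adele.mpr
      ((Set.finite_singleton P).subset fun Q hQ => by
        by_contra h
        exact hQ (by simp [show Q ≠ P from h]))
  let ι : A →ₗ[k] adele k K := Submodule.inclusion (AD_le_adele 0)
  let ιW : K →ₗ[k] adele k K := (diag k K).codRestrict (adele k K) fun x => diag_mem_adele hK.1 ⟨x, rfl⟩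
  let mulV : K → (adele k K →ₗ[k] adele k K) := fun x =>
    (x • (LinearMap.id : (Place k K → K) →ₗ[k] (Place k K → K))).restrict fun a ha => by
      simpa using mul_mem_adele hK.1 x a ha
  have hmulV : ∀ x (a : adele k K) P, (mulV x a).1 P = x * a.1 P := fun _ _ _ => rfl
  let mulA : ∀ x : K, (∀ P ∉ s, P.1 x ≤ 1) → (∀ P, ball P 0 →ₗ[k] ball P 0) → (A →ₗ[k] A) := fun x hx R =>
    { toFun := fun a => ⟨fun P => if P ∈ s then (R P (ev P a)).1 else x * a.1 P, fun P => by
        show P.1 (if P ∈ s then (R P (ev P a)).1 else x * a.1 P) ≤ _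
        rw [Finsupp.zero_apply, exp_zero]
        split_ifs with h
        · exact mem_ball_zero.mp (R P (ev P a)).2
        · rw [map_mul]; exact mul_le_one' (hx P h) (mem_ball_zero.mp (hA a P))⟩
      map_add' := fun a b => Subtype.ext (funext fun P => by
        simp only [map_add, Submodule.coe_add, Pi.add_apply]
        split_ifs <;> simp [mul_add])
      map_smul' := fun c a => Subtype.ext (funext fun P => by
        simp only [map_smul, Submodule.coe_smul, Pi.smul_apply, RingHom.id_apply]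
        split_ifs <;> simp) }
  let T' := mulA u (fun P hP => (hgood P hP).1) T
  let S' := mulA v (fun P hP => (hgood P hP).2) S
  have hlift : ∀ x hx (R : ∀ P, ball P 0 →ₗ[k] ball P 0),
      (∀ P, IsLift (ball P 0).subtype (LinearMap.mulLeft k x) (R P)) → IsLift ι (mulV x) (mulA x hx R) := by
    intro x hx R hR
    show FinRank _
    have e : mulV x ∘ₗ ι - ι ∘ₗ mulA x hx R = ∑ P ∈ s,
        (inV P ∘ₗ (LinearMap.mulLeft k x ∘ₗ (ball P 0).subtype - (ball P 0).subtype ∘ₗ R P)) ∘ₗ ev P := by
      refine LinearMap.ext fun a => Subtype.ext (funext fun Q => ?_)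
      rw [LinearMap.sum_apply, Submodule.coe_sum, Finset.sum_apply]
      show x * a.1 Q - (if Q ∈ s then (R Q (ev Q a)).1 else x * a.1 Q) =
        ∑ P ∈ s, (Pi.single P (x * a.1 P - (R P (ev P a)).1) : Place k K → K) Q
      rw [Finset.sum_pi_single]
      split_ifs <;> simp
    rw [e]
    exact finRank_sum _ fun P _ => ((hR P).comp_left _).comp_right _
  have hcomm : mulV u ∘ₗ mulV v = mulV v ∘ₗ mulV u :=
    LinearMap.ext fun a => Subtype.ext (funext fun P => mul_left_comm u v (a.1 P))
  have hCP : ∀ P, FinRank (T P ∘ₗ S P - S P ∘ₗ T P) := fun P =>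
    finRank_commutator (ball P 0).injective_subtype
      (LinearMap.ext fun z => mul_left_comm u v z) (hT P) (hS P)
  have hC : T' ∘ₗ S' - S' ∘ₗ T' =
      ∑ P ∈ s, inP P ∘ₗ ((T P ∘ₗ S P - S P ∘ₗ T P) ∘ₗ ev P) := by
    refine LinearMap.ext fun a => Subtype.ext (funext fun Q => ?_)
    rw [LinearMap.sum_apply, Submodule.coe_sum, Finset.sum_apply]
    show (if Q ∈ s then (T Q (ev Q (S' a))).1 else u * (S' a).1 Q) -
        (if Q ∈ s then (S Q (ev Q (T' a))).1 else v * (T' a).1 Q) =
      ∑ P ∈ s, (Pi.single P (((T P ∘ₗ S P - S P ∘ₗ T P) (ev P a)).1) : Place k K → K) Q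
    rw [Finset.sum_pi_single]
    split_ifs with h
    · have e1 : ev Q (S' a) = S Q (ev Q a) := Subtype.ext (if_pos h)
      have e2 : ev Q (T' a) = T Q (ev Q a) := Subtype.ext (if_pos h)
      rw [e1, e2]
      rfl
    · show u * (if Q ∈ s then _ else v * a.1 Q) - v * (if Q ∈ s then _ else u * a.1 Q) = 0
      rw [if_neg h, if_neg h]
      ring
  have hev : ∀ P, ev P ∘ₗ inP P = LinearMap.id := fun P => LinearMap.ext fun z =>
    Subtype.ext (Pi.single_eq_same (M := fun _ : Place k K => K) P z.1)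
  have htr : ftr (T' ∘ₗ S' - S' ∘ₗ T') = ∑ P ∈ s, LocRes.locRes (φ P) u v := by
    rw [hC, ftr_sum _ fun P _ => ((hCP P).comp_right _).comp_left _]
    refine Finset.sum_congr rfl fun P _ => ?_
    rw [← ftr_comm ((hCP P).comp_right (ev P)) (inP P), LinearMap.comp_assoc, hev, LinearMap.comp_id, hTS]
  rw [← htr]
  have : FiniteDimensional k (LinearMap.ker (ι.coprod ιW)) := by
    have := L_finite hK.1 (0 : Divisor k K)
    refine Module.Finite.of_injective
      ((LinearMap.snd k A K ∘ₗ (LinearMap.ker (ι.coprod ιW)).subtype).codRestrict (L 0) fun z => ?_) ?_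
    · have h : z.1.1.1 + diag k K z.1.2 = 0 := congrArg Subtype.val (LinearMap.mem_ker.mp z.2)
      show z.1.2 ∈ L 0
      rw [← diag_mem_AD, eq_neg_of_add_eq_zero_right h]
      exact neg_mem z.1.1.2
    · intro z w h
      have hh : z.1.2 = w.1.2 := congrArg Subtype.val h
      have hz : z.1.1.1 + diag k K z.1.2 = 0 := congrArg Subtype.val (LinearMap.mem_ker.mp z.2)
      have hw : w.1.1.1 + diag k K w.1.2 = 0 := congrArg Subtype.val (LinearMap.mem_ker.mp w.2)
      refine Subtype.ext (Prod.ext (Subtype.ext ?_) hh)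
      rw [eq_neg_of_add_eq_zero_left hz, eq_neg_of_add_eq_zero_left hw, hh]
  have : FiniteDimensional k (adele k K ⧸ LinearMap.range (ι.coprod ιW)) := by
    have hr : LinearMap.range (ι.coprod ιW) = ADK (0 : Divisor k K) := by
      ext a
      constructor
      · rintro ⟨z, rfl⟩
        exact Submodule.add_mem_sup z.1.2 ⟨z.2, rfl⟩
      · intro ha
        obtain ⟨y, hy, z, ⟨x, rfl⟩, he⟩ := Submodule.mem_sup.mp ha
        exact ⟨(⟨y, hy⟩, x), Subtype.ext he⟩
    rw [hr]
    exact ADK_finite hK 0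
  refine ftr_commutator_eq_zero hcomm (Submodule.inclusion_injective _) (LinearMap.mulLeft k u)
    (LinearMap.mulLeft k v) ?_ ?_ ?_ (hlift u (fun P hP => (hgood P hP).1) T hT) (hlift v (fun P hP => (hgood P hP).2) S hS) (ιW := ιW)
  · exact LinearMap.ext fun x => Subtype.ext (funext fun P => rfl)
  · exact LinearMap.ext fun x => Subtype.ext (funext fun P => rfl)
  · exact LinearMap.ext fun z => mul_left_comm u v z

end Global

end Groth.Agent.FFLib
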