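import Groth.Agent.FFLib.Res.FinTrace
import Groth.Prelude.Def_LocRes

/-! Tate's residue on Laurent series is the trace of the coefficient of degree `-1` of `f dg`. -/

namespace Groth.Agent.FFLib

open WithZero

variable {F : Type*} [Field F]

/-- All coefficients below `d` vanish. -/
def Low (z : LaurentSeries F) (d : ℤ) : Prop := ∀ i < d, z.coeff i = 0

theorem low_iff_val (z : LaurentSeries F) (d : ℤ) : Low z d ↔ Valued.v z ≤ exp (-d) :=
  (LaurentSeries.valuation_le_iff_coeff_lt_eq_zero F).symm

theorem Low.mono {z : LaurentSeries F} {d e : ℤ} (h : Low z d) (he : e ≤ d) : Low z e :=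
  fun i hi => h i (hi.trans_le he)

theorem Low.mul {z w : LaurentSeries F} {a b : ℤ} (hz : Low z a) (hw : Low w b) : Low (z * w) (a + b) := by
  rw [low_iff_val, map_mul, neg_add, exp_add]
  exact mul_le_mul' ((low_iff_val _ _).mp hz) ((low_iff_val _ _).mp hw)

theorem Low.deriv {z : LaurentSeries F} {d : ℤ} (h : Low z d) : Low (LocRes.D F z) (d - 1) := fun i hi => by
  rw [LocRes.D_coeff, h (i + 1) (by omega), smul_zero]

theorem low_coe (p : PowerSeries F) : Low (p : LaurentSeries F) 0 := fun i hi => by
  rw [PowerSeries.coeff_coe, if_pos hi]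

theorem exists_low (z : LaurentSeries F) : ∃ M : ℕ, Low z (-(M : ℤ)) :=
  ⟨z.order.natAbs, fun i hi => HahnSeries.coeff_eq_zero_of_lt_order (by omega)⟩

theorem low_single {j : ℤ} (c : F) {d : ℤ} (h : d ≤ j) : Low (HahnSeries.single j c) d := fun i hi => by
  rw [HahnSeries.coeff_single_of_ne (by omega)]

/-- Power series as Laurent series. -/
noncomputable def coeL (F : Type*) [Field F] : PowerSeries F →ₗ[F] LaurentSeries F where
  toFun p := (p : LaurentSeries F)
  map_add' p q := map_add (HahnSeries.ofPowerSeries ℤ F) p q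
  map_smul' c p := by
    ext i
    rw [RingHom.id_apply, HahnSeries.coeff_smul, PowerSeries.coeff_coe, PowerSeries.coeff_coe]
    split_ifs <;> simp

theorem low_coeL (p : PowerSeries F) : Low (coeL F p) 0 := low_coe p

theorem coeL_injective : Function.Injective (coeL F) := HahnSeries.ofPowerSeries_injective

theorem coeff_coeL (p : PowerSeries F) (n : ℕ) :
    (coeL F p).coeff (n : ℤ) = PowerSeries.coeff n p := by
  show ((p : LaurentSeries F)).coeff (n : ℤ) = _
  rw [PowerSeries.coeff_coe, if_neg (by omega), Int.natAbs_natCast]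

/-- The regular part. -/
noncomputable def pos (F : Type*) [Field F] : LaurentSeries F →ₗ[F] PowerSeries F where
  toFun z := PowerSeries.mk fun n => z.coeff n
  map_add' z w := PowerSeries.ext fun n => by simp
  map_smul' c z := PowerSeries.ext fun n => by simp

theorem coeff_pos (z : LaurentSeries F) (n : ℕ) : PowerSeries.coeff n (pos F z) = z.coeff n :=
  PowerSeries.coeff_mk n (fun n : ℕ => z.coeff (n : ℤ))

theorem coeL_pos {z : LaurentSeries F} (h : Low z 0) : coeL F (pos F z) = z := by
  ext i
  rcases lt_or_ge i 0 with hi | hi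
  · rw [h i hi]; exact low_coe _ i hi
  · lift i to ℕ using hi
    rw [coeff_coeL, coeff_pos]

/-- Multiplication operators. -/
noncomputable def mulF (f : LaurentSeries F) : LaurentSeries F →ₗ[F] LaurentSeries F where
  toFun z := f * z
  map_add' := mul_add f
  map_smul' c z := by
    rw [← HahnSeries.C_mul_eq_smul, RingHom.id_apply, ← HahnSeries.C_mul_eq_smul]
    ring

/-- Polar parts of bounded order. -/
noncomputable def negMap (M : ℕ) : (Fin M → F) →ₗ[F] LaurentSeries F where
  toFun c := ∑ i : Fin M, HahnSeries.single (-((i : ℕ) : ℤ) - 1) (c i)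
  map_add' c d := by
    rw [← Finset.sum_add_distrib]
    exact Finset.sum_congr rfl fun i _ =>
      map_add (HahnSeries.single.addMonoidHom (-((i : ℕ) : ℤ) - 1)) (c i) (d i)
  map_smul' a c := by
    rw [RingHom.id_apply, Finset.smul_sum]
    exact Finset.sum_congr rfl fun i _ => by
      rw [← HahnSeries.C_mul_eq_smul, HahnSeries.C_apply, HahnSeries.single_mul_single, zero_add,
        Pi.smul_apply, smul_eq_mul]

/-- The coefficients of the polar part. -/
noncomputable def negPart (M : ℕ) : LaurentSeries F →ₗ[F] (Fin M → F) where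
  toFun z i := z.coeff (-((i : ℕ) : ℤ) - 1)
  map_add' z w := funext fun i => by simp
  map_smul' c z := funext fun i => by simp

theorem decomp {M : ℕ} {z : LaurentSeries F} (h : Low z (-(M : ℤ))) :
    coeL F (pos F z) + negMap M (negPart M z) = z := by
  ext j
  have hsum : (negMap M (negPart M z)).coeff j =
      ∑ i : Fin M, if j = -((i : ℕ) : ℤ) - 1 then z.coeff (-((i : ℕ) : ℤ) - 1) else 0 := by
    show (∑ i : Fin M, HahnSeries.single (-((i : ℕ) : ℤ) - 1) (z.coeff (-((i : ℕ) : ℤ) - 1))).coeff j = _
    rw [HahnSeries.coeff_sum]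
    exact Finset.sum_congr rfl fun i _ => by
      rw [HahnSeries.coeff_single]
      split_ifs <;> rfl
  rw [HahnSeries.coeff_add, hsum]
  rcases lt_or_ge j 0 with hj | hj
  · rw [show (coeL F (pos F z)).coeff j = 0 from low_coe _ j hj, zero_add]
    rcases lt_or_ge j (-(M : ℤ)) with hjM | hjM
    · rw [h j hjM]
      exact Finset.sum_eq_zero fun i _ => if_neg (by omega)
    · rw [Finset.sum_eq_single (⟨(-j - 1).toNat, by omega⟩ : Fin M) (fun i _ hi => if_neg fun e => hi
        (Fin.ext (by simp; omega))) (fun h => absurd (Finset.mem_univ _) h)]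
      have : j = -(((-j - 1).toNat : ℕ) : ℤ) - 1 := by omega
      rw [if_pos this, ← this]
  · lift j to ℕ using hj
    rw [coeff_coeL, coeff_pos, Finset.sum_eq_zero fun i _ => if_neg (by omega), add_zero]

/-- The compressed multiplication operator. -/
noncomputable def That (f : LaurentSeries F) : PowerSeries F →ₗ[F] PowerSeries F :=
  pos F ∘ₗ mulF f ∘ₗ coeL F

theorem That_apply (f : LaurentSeries F) (p : PowerSeries F) : That f p = pos F (f * coeL F p) := rfl

theorem That_add (f g : LaurentSeries F) : That (f + g) = That f + That g :=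
  LinearMap.ext fun p => by
    rw [LinearMap.add_apply, That_apply, That_apply, That_apply, add_mul, map_add]

theorem coeL_X_pow (n : ℕ) : coeL F (PowerSeries.X ^ n) = HahnSeries.single (n : ℤ) 1 := by
  show ((PowerSeries.X ^ n : PowerSeries F) : LaurentSeries F) = _
  exact HahnSeries.ofPowerSeries_X_pow n

/-- The diagonal sum of the commutator. -/
noncomputable def Rd (N : ℕ) (f g : LaurentSeries F) : F :=
  ∑ n ∈ Finset.range N, (PowerSeries.coeff n (That f (That g (PowerSeries.X ^ n))) -
    PowerSeries.coeff n (That g (That f (PowerSeries.X ^ n))))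

theorem Rd_swap (N : ℕ) (f g : LaurentSeries F) : Rd N g f = -Rd N f g := by
  rw [Rd, Rd, ← Finset.sum_neg_distrib]
  exact Finset.sum_congr rfl fun n _ => (neg_sub _ _).symm

theorem Rd_add (N : ℕ) (f f' g : LaurentSeries F) : Rd N (f + f') g = Rd N f g + Rd N f' g := by
  rw [Rd, Rd, Rd, ← Finset.sum_add_distrib]
  refine Finset.sum_congr rfl fun n _ => ?_
  rw [That_add, LinearMap.add_apply, LinearMap.add_apply, map_add, map_add, map_add]
  ring

theorem Rd_zero (N : ℕ) (g : LaurentSeries F) : Rd N 0 g = 0 := by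
  have := Rd_add N 0 0 g
  rw [add_zero] at this
  exact add_eq_left.mp this.symm

theorem Rd_sum (N : ℕ) {ι : Type*} (s : Finset ι) (f : ι → LaurentSeries F) (g : LaurentSeries F) :
    Rd N (∑ i ∈ s, f i) g = ∑ i ∈ s, Rd N (f i) g := by
  classical
  induction s using Finset.induction with
  | empty => simp [Rd_zero]
  | insert a s ha ih => rw [Finset.sum_insert ha, Finset.sum_insert ha, Rd_add, ih]

theorem res_swap (f g : LaurentSeries F) :
    LocRes.res F (g * LocRes.D F f) = -LocRes.res F (f * LocRes.D F g) := by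
  have h : LocRes.res F (LocRes.D F (f * g)) = 0 := by
    rw [LocRes.res_apply, LocRes.D_coeff, neg_add_cancel, zero_smul]
  rw [Derivation.leibniz, map_add, smul_eq_mul, smul_eq_mul] at h
  linear_combination h

theorem That_single (i : ℤ) (a : F) (n : ℕ) :
    That (HahnSeries.single i a) (PowerSeries.X ^ n) =
      if 0 ≤ (i + n) then a • PowerSeries.X ^ (i + n).toNat else 0 := by
  rw [That_apply, coeL_X_pow, HahnSeries.single_mul_single, mul_one]
  refine PowerSeries.ext fun m => ?_
  rw [coeff_pos, HahnSeries.coeff_single]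
  split_ifs with h1 h2 h2
  · rw [map_smul, PowerSeries.coeff_X_pow, if_pos (by omega), smul_eq_mul, mul_one]
  · omega
  · rw [map_smul, PowerSeries.coeff_X_pow, if_neg (by omega), smul_zero]
  · rw [map_zero]

theorem res_single (i j : ℤ) (a b : F) :
    LocRes.res F (HahnSeries.single i a * LocRes.D F (HahnSeries.single j b)) =
      if i + j = 0 then (j : F) * (a * b) else 0 := by
  rw [LocRes.res_apply, HahnSeries.coeff_single_mul, LocRes.D_coeff, HahnSeries.coeff_single]
  by_cases h : i + j = 0
  · rw [if_pos h, if_pos (by omega), show (-1 - i + 1) = j by omega, zsmul_eq_mul]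
    ring
  · rw [if_neg h, if_neg (by omega), smul_zero, mul_zero]

theorem Rd_single (N : ℕ) (i j : ℤ) (a b : F) (hi : -(N : ℤ) ≤ i) (hj : -(N : ℤ) ≤ j) :
    Rd N (HahnSeries.single i a) (HahnSeries.single j b) =
      LocRes.res F (HahnSeries.single i a * LocRes.D F (HahnSeries.single j b)) := by
  rw [res_single, Rd]
  have key : ∀ (i j : ℤ) (a b : F) (n : ℕ),
      PowerSeries.coeff n (That (HahnSeries.single i a) (That (HahnSeries.single j b) (PowerSeries.X ^ n))) =
        if i + j = 0 ∧ 0 ≤ j + n then a * b else 0 := by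
    intro i j a b n
    rw [That_single]
    split_ifs with h1 h2 h2
    · rw [map_smul, That_single, if_pos (by omega), map_smul, map_smul, PowerSeries.coeff_X_pow,
        if_pos (by omega)]
      simp only [smul_eq_mul]; ring
    · rw [map_smul, That_single]
      split_ifs with h3
      · rw [map_smul, map_smul, PowerSeries.coeff_X_pow, if_neg (by omega), smul_zero, smul_zero]
      · simp
    · omega
    · simp
  rw [Finset.sum_congr rfl fun n _ => by rw [key, key]]
  by_cases h : i + j = 0
  · simp only [h, add_comm j i, true_and, if_true]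
    rw [Finset.sum_sub_distrib, ← Finset.sum_filter, ← Finset.sum_filter, Finset.sum_const,
      Finset.sum_const, mul_comm b a, nsmul_eq_mul, nsmul_eq_mul, ← sub_mul]
    congr 1
    have c : ∀ j : ℤ, -(N : ℤ) ≤ j →
        ((Finset.range N).filter fun n => 0 ≤ j + (n : ℕ)).card = N - (-j).toNat := by
      intro j hj
      rw [show (Finset.range N).filter (fun n => 0 ≤ j + (n : ℕ)) = Finset.Ico (-j).toNat N by
        ext n; simp only [Finset.mem_filter, Finset.mem_range, Finset.mem_Ico]; omega, Nat.card_Ico]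
    rw [c j hj, c i hi, Nat.cast_sub (by omega), Nat.cast_sub (by omega)]
    have hz : ((N : ℤ) - (-j).toNat - ((N : ℤ) - (-i).toNat) : ℤ) = j := by omega
    have := congrArg (fun z : ℤ => (z : F)) hz
    push_cast at this
    exact this
  · simp [h, show ¬ j + i = 0 by omega]

theorem Rd_tail {N M : ℕ} {f g : LaurentSeries F} (hf : Low f ((N : ℤ) + M + 1)) (hg : Low g (-(M : ℤ))) :
    Rd N f g = 0 ∧ LocRes.res F (f * LocRes.D F g) = 0 := by
  refine ⟨Finset.sum_eq_zero fun n hn => ?_, (hf.mul hg.deriv) _ (by omega)⟩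
  rw [Finset.mem_range] at hn
  rw [That_apply, coeff_pos, (hf.mul (low_coeL _)) _ (by omega), That_apply g, coeff_pos,
    (hg.mul (?_ : Low _ ((N : ℤ) + M + 1))) _ (by omega), sub_zero]
  intro i hi
  rcases lt_or_ge i 0 with hi0 | hi0
  · exact low_coe _ i hi0
  · lift i to ℕ using hi0
    rw [coeff_coeL, That_apply, coeff_pos]
    exact (hf.mul (low_coeL _)) _ (by omega)

theorem exists_split {z : LaurentSeries F} {M : ℕ} (h : Low z (-(M : ℤ))) (e : ℤ) :
    ∃ r, Low r e ∧ z = (∑ i ∈ Finset.Ico (-(M : ℤ)) e, HahnSeries.single i (z.coeff i)) + r := by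
  refine ⟨z - ∑ i ∈ Finset.Ico (-(M : ℤ)) e, HahnSeries.single i (z.coeff i), fun i hi => ?_, by abel⟩
  rw [HahnSeries.coeff_sub, HahnSeries.coeff_sum]
  rcases lt_or_ge i (-(M : ℤ)) with h' | h'
  · rw [h i h', zero_sub, neg_eq_zero]
    exact Finset.sum_eq_zero fun l hl => HahnSeries.coeff_single_of_ne (by rw [Finset.mem_Ico] at hl; omega)
  · rw [Finset.sum_eq_single_of_mem i (Finset.mem_Ico.mpr ⟨h', hi⟩) fun l _ hl =>
      HahnSeries.coeff_single_of_ne (Ne.symm hl), HahnSeries.coeff_single_same, sub_self]

/-- The diagonal sum is the residue of `f dg`. -/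
theorem Rd_eq_res {N M : ℕ} (hN : M ≤ N) {f g : LaurentSeries F} (hf : Low f (-(M : ℤ)))
    (hg : Low g (-(M : ℤ))) : Rd N f g = LocRes.res F (f * LocRes.D F g) := by
  have one : ∀ (i : ℤ) (a : F), -(M : ℤ) ≤ i → ∀ g : LaurentSeries F, Low g (-(M : ℤ)) →
      Rd N (HahnSeries.single i a) g = LocRes.res F (HahnSeries.single i a * LocRes.D F g) := by
    intro i a hi g hg
    obtain ⟨r, hr, hgr⟩ := exists_split hg ((N : ℤ) + M + 1)
    obtain ⟨h1, h2⟩ := Rd_tail (f := r) hr (low_single a hi)
    rw [← neg_neg (Rd N _ g), ← Rd_swap, ← neg_neg (LocRes.res F _), ← res_swap, hgr, Rd_add, Rd_sum, h1,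
      add_zero, add_mul, map_add, h2, add_zero, Finset.sum_mul, map_sum]
    refine congrArg Neg.neg (Finset.sum_congr rfl fun j hj => ?_)
    rw [Finset.mem_Ico] at hj
    exact Rd_single N j i _ a (by omega) (by omega)
  obtain ⟨r, hr, hfr⟩ := exists_split hf ((N : ℤ) + M + 1)
  obtain ⟨h1, h2⟩ := Rd_tail (f := r) hr hg
  rw [hfr, Rd_add, Rd_sum, h1, add_zero, add_mul, map_add, h2, add_zero, Finset.sum_mul, map_sum]
  exact Finset.sum_congr rfl fun i hi => one i _ (Finset.mem_Ico.mp hi).1 g hg

section OverBase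

variable {k : Type*} [Field k] [Algebra k F] [FiniteDimensional k F]

theorem ftr_scalar (E : F →ₗ[F] F) : ftr (E.restrictScalars k) = Algebra.trace k F (E 1) := by
  rw [ftr_of_finite, Algebra.trace_apply]
  congr 1
  refine LinearMap.ext fun x => ?_
  show E x = E 1 * x
  rw [mul_comm, ← smul_eq_mul, ← map_smul, smul_eq_mul, mul_one]

/-- The compressed operator lifts multiplication. -/
theorem isLift_That (f : LaurentSeries F) :
    IsLift ((coeL F).restrictScalars k) ((mulF f).restrictScalars k) ((That f).restrictScalars k) := by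
  obtain ⟨M, hM⟩ := exists_low f
  have e : (mulF f).restrictScalars k ∘ₗ (coeL F).restrictScalars k -
      (coeL F).restrictScalars k ∘ₗ (That f).restrictScalars k =
      (negMap M).restrictScalars k ∘ₗ
        ((negPart M ∘ₗ mulF f ∘ₗ coeL F).restrictScalars k) := by
    refine LinearMap.ext fun p => ?_
    show f * coeL F p - coeL F (pos F (f * coeL F p)) = negMap M (negPart M (f * coeL F p))
    rw [sub_eq_iff_eq_add, add_comm]
    exact (decomp (((hM.mul (low_coeL p)).mono (by omega)))).symm
  show FinRank _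
  rw [e]
  exact FinRank.comp_right (finRank_of_domain (M := Fin M → F) (N := LaurentSeries F) ((negMap M).restrictScalars k)) _

/-- The trace of a linear operator vanishing on high powers. -/
theorem ftr_of_vanish (C : PowerSeries F →ₗ[F] PowerSeries F) {N : ℕ}
    (hC : ∀ p : PowerSeries F, (∀ i < N, PowerSeries.coeff i p = 0) → C p = 0) :
    FinRank (C.restrictScalars k) ∧ ftr (C.restrictScalars k) =
      Algebra.trace k F (∑ n ∈ Finset.range N, PowerSeries.coeff n (C (PowerSeries.X ^ n))) := by
  classical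
  let A : ℕ → (F →ₗ[F] PowerSeries F) := fun n =>
    C ∘ₗ (LinearMap.id : F →ₗ[F] F).smulRight (PowerSeries.X ^ n)
  let π : ℕ → (PowerSeries F →ₗ[k] F) := fun n => (PowerSeries.coeff n).restrictScalars k
  have hA : ∀ (n : ℕ) (a : F), A n a = a • C (PowerSeries.X ^ n) := fun n a => map_smul C a _
  have hsum : C.restrictScalars k = ∑ n ∈ Finset.range N, (A n).restrictScalars k ∘ₗ π n := by
    refine LinearMap.ext fun p => ?_
    rw [LinearMap.sum_apply]
    have h0 := hC (p - ∑ n ∈ Finset.range N, PowerSeries.coeff n p • PowerSeries.X ^ n) fun i hi => by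
      rw [map_sub, map_sum]
      simp only [map_smul, PowerSeries.coeff_X_pow, smul_eq_mul, mul_ite, mul_one, mul_zero,
        Finset.sum_ite_eq, Finset.mem_range]
      rw [if_pos hi, sub_self]
    rw [map_sub, map_sum, sub_eq_zero] at h0
    exact h0.trans (Finset.sum_congr rfl fun n _ => (map_smul C _ _).trans (hA n _).symm)
  have hfin : ∀ n ∈ Finset.range N, FinRank ((A n).restrictScalars k ∘ₗ π n) := fun n _ =>
    FinRank.comp_right (finRank_of_domain (M := F) (N := PowerSeries F) _) _
  refine ⟨hsum ▸ finRank_sum _ hfin, ?_⟩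
  rw [hsum, ftr_sum _ hfin, map_sum]
  refine Finset.sum_congr rfl fun n _ => ?_
  rw [ftr_comm (finRank_of_domain (M := F) (N := PowerSeries F) _) (π n)]
  refine (ftr_scalar (PowerSeries.coeff n ∘ₗ A n)).trans ?_
  congr 1
  show PowerSeries.coeff n (A n 1) = _
  rw [hA, one_smul]

/-- Tate's residue of Laurent series. -/
theorem ftr_That (f g : LaurentSeries F) :
    ftr ((That f).restrictScalars k ∘ₗ (That g).restrictScalars k -
      (That g).restrictScalars k ∘ₗ (That f).restrictScalars k) =
      Algebra.trace k F (LocRes.res F (f * LocRes.D F g)) := by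
  obtain ⟨M₁, h₁⟩ := exists_low f
  obtain ⟨M₂, h₂⟩ := exists_low g
  set M := M₁ + M₂
  have hf : Low f (-(M : ℤ)) := h₁.mono (by omega)
  have hg : Low g (-(M : ℤ)) := h₂.mono (by omega)
  have hexact : ∀ (h : LaurentSeries F) (p : PowerSeries F), Low h (-(M : ℤ)) → Low (coeL F p) M →
      coeL F (That h p) = h * coeL F p := fun h p hh hp => by
    rw [That_apply]
    exact coeL_pos ((hh.mul hp).mono (by omega))
  have hzero : ∀ p : PowerSeries F, (∀ i < M + M, PowerSeries.coeff i p = 0) →
      (That f ∘ₗ That g - That g ∘ₗ That f) p = 0 := by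
    intro p hp
    have hp2 : Low (coeL F p) ((M : ℤ) + M) := fun i hi => by
      rcases lt_or_ge i 0 with hi0 | hi0
      · exact low_coeL _ i hi0
      · lift i to ℕ using hi0
        rw [coeff_coeL]
        exact hp i (by omega)
    apply coeL_injective
    have hp' : Low (coeL F p) M := hp2.mono (by omega)
    have l1 : Low (coeL F (That g p)) M := by
      rw [hexact g p hg hp']; exact (hg.mul hp2).mono (by omega)
    have l2 : Low (coeL F (That f p)) M := by
      rw [hexact f p hf hp']; exact (hf.mul hp2).mono (by omega)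
    rw [LinearMap.sub_apply, LinearMap.comp_apply, LinearMap.comp_apply,
      map_sub, map_zero, hexact f _ hf l1, hexact g _ hg l2, hexact g p hg hp', hexact f p hf hp']
    ring
  have hN : M ≤ M + M := Nat.le_add_right M M
  rw [← Rd_eq_res hN hf hg, Rd]
  refine Eq.trans ?_ ((ftr_of_vanish _ hzero).2.trans (congrArg _ (Finset.sum_congr rfl fun n _ => map_sub _ _ _)))
  congr 1

end OverBase

end Groth.Agent.FFLib
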