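import Groth.Agent.FFLib.Res.LaurentTate
import Groth.Prelude.Def_LocRes
import Mathlib.RingTheory.Valuation.Extension
import Mathlib.LinearAlgebra.Basis.SMul

/-! The residue commutes with the trace in a finite separable extension, by Tate's commensurable lattices. -/

namespace Groth.Agent.FFLib

open WithZero Module

universe u v

section Comm

variable {k : Type*} [Field k]
variable {M N V : Type*} [AddCommGroup M] [Module k M] [AddCommGroup N] [Module k N]
  [AddCommGroup V] [Module k V]

/-- The residue is the same for a sublattice of finite codimension. -/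
theorem ftr_commutator_sublattice {ι : M →ₗ[k] V} (hι : Function.Injective ι) {j : N →ₗ[k] M}
    (hj : Function.Injective j) [FiniteDimensional k (M ⧸ LinearMap.range j)]
    {f g : V →ₗ[k] V} (hfg : f ∘ₗ g = g ∘ₗ f) {T S : M →ₗ[k] M} (hT : IsLift ι f T) (hS : IsLift ι g S)
    {T' S' : N →ₗ[k] N} (hT' : IsLift (ι ∘ₗ j) f T') (hS' : IsLift (ι ∘ₗ j) g S') :
    ftr (T' ∘ₗ S' - S' ∘ₗ T') = ftr (T ∘ₗ S - S ∘ₗ T) := by
  obtain ⟨p, hp⟩ := j.exists_leftInverse_of_injective (LinearMap.ker_eq_bot.2 hj)
  have hq : FinRank (LinearMap.id - j ∘ₗ p) := finRank_of_vanish (LinearMap.range j) _ fun m hm => by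
    obtain ⟨n, rfl⟩ := hm
    have := LinearMap.congr_fun hp n
    simp only [LinearMap.comp_apply, LinearMap.id_coe, id_eq] at this
    simp [this]
  have hlift : ∀ {h : V →ₗ[k] V} {R : M →ₗ[k] M} {R' : N →ₗ[k] N}, IsLift ι h R → IsLift (ι ∘ₗ j) h R' →
      IsLift ι h (j ∘ₗ R' ∘ₗ p) := fun {h R R'} hR hR' => by
    have e : h ∘ₗ ι - ι ∘ₗ (j ∘ₗ R' ∘ₗ p) =
        (h ∘ₗ ι) ∘ₗ (LinearMap.id - j ∘ₗ p) + (h ∘ₗ (ι ∘ₗ j) - (ι ∘ₗ j) ∘ₗ R') ∘ₗ p := by
      refine LinearMap.ext fun m => ?_
      simp only [LinearMap.comp_apply, LinearMap.sub_apply, LinearMap.add_apply, LinearMap.id_coe, id_eq, map_sub]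
      abel
    show FinRank _
    rw [e]
    exact (hq.comp_left _).add (hR'.comp_right p)
  have hC : FinRank (T' ∘ₗ S' - S' ∘ₗ T') :=
    finRank_commutator (ι := ι ∘ₗ j) (hι.comp hj) hfg hT' hS'
  have hpj : ∀ n, p (j n) = n := LinearMap.congr_fun hp
  have e : (j ∘ₗ T' ∘ₗ p) ∘ₗ (j ∘ₗ S' ∘ₗ p) - (j ∘ₗ S' ∘ₗ p) ∘ₗ (j ∘ₗ T' ∘ₗ p) =
      j ∘ₗ ((T' ∘ₗ S' - S' ∘ₗ T') ∘ₗ p) := by
    refine LinearMap.ext fun m => ?_
    simp only [LinearMap.comp_apply, LinearMap.sub_apply, hpj, map_sub]
  rw [← ftr_commutator_congr hι hfg hT (hlift hT hT') hS (hlift hS hS'), e, ← ftr_comm (hC.comp_right p) j,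
    LinearMap.comp_assoc, hp, LinearMap.comp_id]

theorem finRank_smul {X : M →ₗ[k] N} (c : k) (hX : FinRank X) : FinRank (c • X) := by
  rw [show c • X = (c • LinearMap.id) ∘ₗ X from LinearMap.ext fun _ => rfl]
  exact hX.comp_left _

end Comm

section Trace

variable {K L : Type u} {F E : Type v} [Field K] [Field L] [Field F] [Field E] [Algebra K F] [Algebra F E]
  [Algebra K E] [IsScalarTower K F E] [Algebra K L] [Algebra L E] [IsScalarTower K L E] [FiniteDimensional K L]
  [FiniteDimensional F E]
  {v : Valuation F (WithZero (Multiplicative ℤ))} {w : Valuation E (WithZero (Multiplicative ℤ))}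
  [v.HasExtension w]
  {φ : F →ₐ[K] LaurentSeries K} (hφ : LocRes.IsExpansionAt v φ) (hφs : Function.Surjective φ)
  {ψ : E →ₐ[L] LaurentSeries L} (hψ : LocRes.IsExpansionAt w ψ)

/-- The inverse of the expansion. -/
noncomputable def phiEquiv (φ : F →ₐ[K] LaurentSeries K) (hφs : Function.Surjective φ) :
    F ≃+* LaurentSeries K :=
  RingEquiv.ofBijective φ ⟨φ.toRingHom.injective, hφs⟩

theorem psi_algebraMap (ψ : E →ₐ[L] LaurentSeries L) (c : K) :
    ψ (algebraMap F E (algebraMap K F c)) = HahnSeries.C (algebraMap K L c) := by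
  rw [← IsScalarTower.algebraMap_apply K F E, IsScalarTower.algebraMap_apply K L E, LocRes.map_algebraMap]
  rfl

theorem phiEquiv_symm_C (c : K) : (phiEquiv φ hφs).symm (HahnSeries.C c) = algebraMap K F c := by
  rw [RingEquiv.symm_apply_eq]
  exact (LocRes.map_algebraMap φ c).symm.trans rfl

/-- `z ↦ ψ (φ⁻¹ z · b)`. -/
noncomputable def transport (φ : F →ₐ[K] LaurentSeries K) (hφs : Function.Surjective φ)
    (ψ : E →ₐ[L] LaurentSeries L) (b : E) : LaurentSeries K →ₗ[K] LaurentSeries L where
  toFun z := ψ ((phiEquiv φ hφs).symm z • b)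
  map_add' z z' := by rw [map_add, add_smul, map_add]
  map_smul' c z := by
    rw [RingHom.id_apply, ← HahnSeries.C_mul_eq_smul, map_mul, phiEquiv_symm_C, mul_smul,
      Algebra.smul_def (algebraMap K F c), map_mul, psi_algebraMap, HahnSeries.C_mul_eq_smul, algebraMap_smul]

include hφ in
theorem val_le_one_iff (a : F) : w (algebraMap F E a) ≤ 1 ↔ Low (φ a) 0 := by
  rw [low_iff_val, hφ.1, neg_zero, exp_zero]
  exact ((Valuation.HasExtension.val_isEquiv_comap (vR := v) (vA := w)).le_one_iff_le_one (x := a)).symm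

include hψ in
theorem low_psi_iff (y : E) (d : ℤ) : Low (ψ y) d ↔ w y ≤ exp (-d) := by
  rw [low_iff_val, hψ.1]

theorem coe_mem_low {z : LaurentSeries L} (h : Low z 0) : ∃ p, coeL L p = z := ⟨pos L z, coeL_pos h⟩

include hφ hφs hψ in
/-- The valuation ring above is spanned by finitely many elements over the one below. -/
theorem exists_span : ∃ (n : ℕ) (g : Fin n → E), ∀ z : LaurentSeries L, Low z 0 →
    ∃ G : Fin n → PowerSeries K, z = ∑ l, transport φ hφs ψ (g l) (coeL K (G l)) := by
  classical
  set e := phiEquiv φ hφs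
  set s : F := e.symm (HahnSeries.single 1 1)
  have hφs1 : φ s = HahnSeries.single 1 1 := e.apply_symm_apply _
  have hs0 : s ≠ 0 := fun h => by
    rw [h, map_zero] at hφs1
    exact one_ne_zero (HahnSeries.single_eq_zero_iff.mp hφs1.symm)
  set S : LaurentSeries L := ψ (algebraMap F E s)
  have hS0 : S ≠ 0 := fun h => hs0 (by
    have := ψ.toRingHom.injective ((h : ψ (algebraMap F E s) = 0).trans (map_zero ψ).symm)
    exact (algebraMap F E).injective (this.trans (map_zero _).symm))
  -- `S` has positive order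
  have hSlow : Low S 1 := by
    rw [low_psi_iff hψ]
    have hv : v s < 1 := by
      rw [← hφ.1, hφs1, LaurentSeries.valuation_single_zpow, ← exp_zero, exp_lt_exp]
      norm_num
    have hw : w (algebraMap F E s) < 1 :=
      ((Valuation.HasExtension.val_isEquiv_comap (vR := v) (vA := w)).lt_one_iff_lt_one (x := s)).1 hv
    rcases eq_or_ne (w (algebraMap F E s)) 0 with h | h
    · rw [h]; exact zero_le
    · rw [← exp_log h] at hw ⊢
      rw [← exp_zero, exp_lt_exp] at hw
      rw [exp_le_exp]; omega
  obtain ⟨t, ht⟩ := hψ.2.2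
  set d : ℕ := S.order.natAbs
  let bL := Module.finBasis K L
  choose f hf hf0 using fun j => hψ.2.1 (bL j)
  -- generators `f_j t^i`, `i < d`
  let I := Fin d × Fin (Module.finrank K L)
  let h : I → E := fun l => f l.2 * t ^ (l.1 : ℕ)
  have ht1 : ∀ i : ℕ, Low (ψ (t ^ i)) i := fun i => by
    rw [low_psi_iff hψ, map_pow, ht, ← exp_nsmul]
    simp
  have htne : ∀ i : ℕ, (ψ (t ^ i)).coeff i ≠ 0 := fun i h0 => by
    have h1 : Low (ψ (t ^ i)) ((i : ℤ) + 1) := fun j hj => by
      rcases lt_or_eq_of_le (Int.lt_add_one_iff.mp hj) with hj | rfl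
      · exact ht1 i j hj
      · exact h0
    rw [low_psi_iff hψ, map_pow, ht, ← exp_nsmul, exp_le_exp] at h1
    simp at h1
  -- approximation modulo `X ^ m`
  have hf1 : ∀ j, Low (ψ (f j)) 0 := fun j => by rw [low_psi_iff hψ, neg_zero, exp_zero]; exact hf j
  have approx : ∀ m : ℕ, ∀ z : LaurentSeries L, Low z 0 → ∃ c : ℕ → Fin (Module.finrank K L) → K,
      Low (z - ∑ i ∈ Finset.range m, ∑ j, HahnSeries.C (algebraMap K L (c i j)) * ψ (f j * t ^ i)) m := by
    intro m
    induction m with
    | zero => intro z hz; exact ⟨0, by simpa using hz⟩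
    | succ m ih =>
      intro z hz
      obtain ⟨c, hc⟩ := ih z hz
      set r := z - ∑ i ∈ Finset.range m, ∑ j, HahnSeries.C (algebraMap K L (c i j)) * ψ (f j * t ^ i)
      let a : L := r.coeff m / (ψ (t ^ m)).coeff m
      refine ⟨Function.update c m fun j => bL.repr a j, ?_⟩
      rw [Finset.sum_range_succ, Function.update_self, ← sub_sub]
      have e1 : ∀ i ∈ Finset.range m, ∑ j, HahnSeries.C (algebraMap K L (Function.update c m (fun j => bL.repr a j) i j)) *
          ψ (f j * t ^ i) = ∑ j, HahnSeries.C (algebraMap K L (c i j)) * ψ (f j * t ^ i) := fun i hi => by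
        rw [Function.update_of_ne (Finset.mem_range.1 hi).ne]
      rw [Finset.sum_congr rfl e1]
      change Low (r - _) _
      set q : LaurentSeries L := ∑ j, HahnSeries.C (algebraMap K L (bL.repr a j)) * ψ (f j) with hqdef
      have hq : ∑ j, HahnSeries.C (algebraMap K L (bL.repr a j)) * ψ (f j * t ^ m) = q * ψ (t ^ m) := by
        rw [hqdef, Finset.sum_mul]
        refine Finset.sum_congr rfl fun j _ => ?_
        rw [map_mul]; ring
      rw [hq]
      have hq0 : Low (q - HahnSeries.C a) 1 := fun i hi => by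
        rw [HahnSeries.coeff_sub, hqdef, HahnSeries.coeff_sum]
        simp only [HahnSeries.C_mul_eq_smul, HahnSeries.coeff_smul, smul_eq_mul]
        rcases lt_or_eq_of_le (show i ≤ 0 by omega) with hi0 | rfl
        · rw [HahnSeries.C_apply, HahnSeries.coeff_single_of_ne hi0.ne, sub_zero]
          exact Finset.sum_eq_zero fun j _ => by rw [hf1 j i hi0, mul_zero]
        · simp only [hf0, HahnSeries.C_apply, HahnSeries.coeff_single_same]
          rw [sub_eq_zero]
          conv_rhs => rw [← bL.sum_repr a]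
          simp only [Algebra.smul_def]
      intro i hi
      have hd : r - q * ψ (t ^ m) = (r - HahnSeries.C a * ψ (t ^ m)) - (q - HahnSeries.C a) * ψ (t ^ m) := by ring
      rw [hd, HahnSeries.coeff_sub, (hq0.mul (ht1 m)) i (by push_cast at hi ⊢; omega), sub_zero,
        HahnSeries.coeff_sub, HahnSeries.C_mul_eq_smul, HahnSeries.coeff_smul, smul_eq_mul]
      rcases lt_or_eq_of_le (show i ≤ m by push_cast at hi; omega) with hi0 | rfl
      · rw [hc i hi0, ht1 m i hi0, mul_zero, sub_zero]
      · rw [show a = _ from rfl, div_mul_cancel₀ _ (htne m), sub_self]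
  -- division by `S`
  have hdiv : ∀ r : LaurentSeries L, Low r d → Low (r / S) 0 := fun r hr => by
    rw [low_iff_val, neg_zero, exp_zero, map_div₀]
    have hSne : Valued.v S ≠ 0 := by simpa using hS0
    rw [div_le_iff₀ (zero_lt_iff.2 hSne), one_mul]
    by_contra hcon
    have hlt : Valued.v S < exp (-(d : ℤ)) := (not_le.1 hcon).trans_le ((low_iff_val _ _).1 hr)
    have hl : Low S ((d : ℤ) + 1) := by
      rw [low_iff_val]
      rw [← exp_log hSne] at hlt ⊢
      rw [exp_lt_exp] at hlt
      rw [exp_le_exp]; omega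
    exact hS0 (HahnSeries.coeff_order_eq_zero.1 (hl _ (by omega)))
  have step : ∀ z : LaurentSeries L, Low z 0 → ∃ (c : I → K) (z' : LaurentSeries L), Low z' 0 ∧
      z = ∑ l, HahnSeries.C (algebraMap K L (c l)) * ψ (h l) + S * z' := fun z hz => by
    obtain ⟨c, hc⟩ := approx d z hz
    refine ⟨fun l => c l.1 l.2, _, hdiv _ hc, ?_⟩
    rw [mul_div_cancel₀ _ hS0, Fintype.sum_prod_type]
    simp only [h]
    rw [Fin.sum_univ_eq_sum_range (fun i => ∑ j, HahnSeries.C (algebraMap K L (c i j)) * ψ (f j * t ^ i)) d]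
    ring
  choose c z' hz' hstep using fun z : {z : LaurentSeries L // Low z 0} => step z.1 z.2
  let ε : Fin (Fintype.card I) ≃ I := (Fintype.equivFin I).symm
  refine ⟨Fintype.card I, fun l => h (ε l), fun z hz => ?_⟩
  let seq : ℕ → {z : LaurentSeries L // Low z 0} := fun N => Nat.rec ⟨z, hz⟩ (fun _ x => ⟨z' x, hz' x⟩) N
  let G : I → PowerSeries K := fun l => PowerSeries.mk fun N => c (seq N) l
  refine ⟨fun l => G (ε l), ?_⟩
  rw [ε.sum_comp (fun l => transport φ hφs ψ (h l) (coeL K (G l)))]
  -- partial sums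
  let pre : ℕ → LaurentSeries L := fun N => ∑ n ∈ Finset.range N,
    S ^ n * ∑ l, HahnSeries.C (algebraMap K L (c (seq n) l)) * ψ (h l)
  have hpre : ∀ N, z = pre N + S ^ N * (seq N).1 := fun N => by
    induction N with
    | zero => simp [pre, seq]
    | succ N ih =>
      calc z = pre N + S ^ N * (seq N).1 := ih
        _ = pre N + S ^ N * (∑ l, HahnSeries.C (algebraMap K L (c (seq N) l)) * ψ (h l) + S * z' (seq N)) := by
          rw [← hstep]
        _ = pre (N + 1) + S ^ (N + 1) * (seq (N + 1)).1 := by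
          simp only [pre, Finset.sum_range_succ]
          show _ = _ + S ^ (N + 1) * z' (seq N)
          ring
  -- the tail of each series
  have htail : ∀ (l : I) (N : ℕ), ∃ r : LaurentSeries L, Low r 0 ∧ transport φ hφs ψ (h l) (coeL K (G l)) =
      (∑ n ∈ Finset.range N, S ^ n * (HahnSeries.C (algebraMap K L (c (seq n) l)) * ψ (h l))) + S ^ N * r := by
    intro l N
    set a := e.symm (coeL K (G l))
    let aN : F := ∑ n ∈ Finset.range N, algebraMap K F (c (seq n) l) * s ^ n
    set q : F := (a - aN) / s ^ N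
    have hq : Low (φ q) 0 := by
      have h1 : Low (φ (a - aN)) N := fun i hi => by
        rw [map_sub, HahnSeries.coeff_sub, show φ a = coeL K (G l) from e.apply_symm_apply _]
        simp only [aN, map_sum, map_mul, map_pow, hφs1, LocRes.map_algebraMap, HahnSeries.single_pow,
          HahnSeries.coeff_sum, HahnSeries.C_mul_eq_smul, HahnSeries.coeff_smul, one_pow, nsmul_eq_mul, mul_one,
          HahnSeries.coeff_single, smul_eq_mul, mul_ite, mul_zero, Algebra.algebraMap_self, RingHom.id_apply]
        rcases lt_or_ge i 0 with hi0 | hi0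
        · rw [low_coeL _ i hi0, Finset.sum_eq_zero fun n _ => if_neg (by omega), sub_zero]
        · lift i to ℕ using hi0
          rw [coeff_coeL, PowerSeries.coeff_mk, Finset.sum_eq_single_of_mem i
            (Finset.mem_range.2 (by omega)) (fun n _ hn => if_neg (by omega)), if_pos rfl, sub_self]
      rw [low_iff_val] at h1 ⊢
      rw [map_div₀, map_div₀, map_pow, map_pow, hφs1, LaurentSeries.valuation_single_zpow, neg_zero, exp_zero,
        div_le_iff₀ (zero_lt_iff.2 (pow_ne_zero _ exp_ne_zero)), one_mul, ← exp_nsmul]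
      simpa using h1
    refine ⟨ψ (algebraMap F E q * h l), ?_, ?_⟩
    · rw [low_psi_iff hψ, neg_zero, exp_zero, map_mul]
      refine mul_le_one' ((val_le_one_iff hφ q).2 hq) ?_
      show w (f l.2 * t ^ (l.1 : ℕ)) ≤ 1
      rw [map_mul, map_pow, ht]
      refine mul_le_one' (hf _) (pow_le_one₀ zero_le ?_)
      rw [← exp_zero, exp_le_exp]; norm_num
    · show ψ (a • h l) = _
      have ha : a = aN + s ^ N * q := by rw [mul_div_cancel₀ _ (pow_ne_zero _ hs0)]; ring
      rw [ha, add_smul, map_add, Algebra.smul_def, Algebra.smul_def, map_mul, map_mul, map_mul, map_mul, map_pow,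
        map_pow, map_sum, map_sum, Finset.sum_mul]
      congr 1
      · refine Finset.sum_congr rfl fun n _ => ?_
        rw [map_mul, map_mul, map_pow, map_pow, psi_algebraMap]
        ring
      · simp only [S, map_mul, map_pow]
        ring
  rw [← sub_eq_zero]
  ext i
  rw [HahnSeries.coeff_zero]
  set N : ℕ := i.natAbs + 1
  choose r hr hr' using fun l => htail l N
  have hdiff : z - ∑ l, transport φ hφs ψ (h l) (coeL K (G l)) = S ^ N * ((seq N).1 - ∑ l, r l) := by
    rw [Finset.sum_congr rfl (fun l _ => hr' l), Finset.sum_add_distrib, Finset.sum_comm]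
    simp only [← Finset.mul_sum]
    linear_combination hpre N
  rw [hdiff]
  have hSN : Low (S ^ N) N := by
    rw [low_iff_val, map_pow]
    refine (pow_le_pow_left' ((low_iff_val _ _).1 hSlow) N).trans (le_of_eq ?_)
    rw [← exp_nsmul]; simp
  have hR : Low ((seq N).1 - ∑ l, r l) 0 := fun j hj => by
    rw [HahnSeries.coeff_sub, (seq N).2 j hj, HahnSeries.coeff_sum, Finset.sum_eq_zero fun l _ => hr l j hj,
      sub_zero]
  exact (hSN.mul hR) i (by omega)

include hφ hφs hψ in
set_option maxHeartbeats 1600000 in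
theorem trace_resExp (x : F) (y : E) :
    Algebra.trace K L (LocRes.resExp ψ y (algebraMap F E x)) =
      LocRes.resExp φ (Algebra.trace F E y) x := by
  classical
  set e := phiEquiv φ hφs
  set s : F := e.symm (HahnSeries.single 1 1)
  have hφs1 : φ s = HahnSeries.single 1 1 := e.apply_symm_apply _
  have hs0 : s ≠ 0 := fun h => by
    rw [h, map_zero] at hφs1
    exact one_ne_zero (HahnSeries.single_eq_zero_iff.mp hφs1.symm)
  set n := Module.finrank F E
  let b₀ := Module.finBasis F E
  -- scale the basis into the valuation ring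
  have hws : w (algebraMap F E s) < 1 := by
    refine ((Valuation.HasExtension.val_isEquiv_comap (vR := v) (vA := w)).lt_one_iff_lt_one (x := s)).1 ?_
    rw [← hφ.1, hφs1, LaurentSeries.valuation_single_zpow, ← exp_zero, exp_lt_exp]
    norm_num
  have hscale : ∀ z : E, ∃ m : ℕ, w (algebraMap F E (s ^ m) * z) ≤ 1 := fun z => by
    rcases eq_or_ne (w z) 0 with hz | hz
    · exact ⟨0, by simp [map_mul, hz]⟩
    refine ⟨(log (w z)).natAbs, ?_⟩
    rw [map_mul, map_pow, map_pow, ← exp_log hz]
    have hsne : w (algebraMap F E s) ≠ 0 := by simpa using hs0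
    rw [← exp_log hsne, ← exp_nsmul, ← exp_add, ← exp_zero, exp_le_exp]
    rw [← exp_log hsne, ← exp_zero, exp_lt_exp] at hws
    simp only [nsmul_eq_mul, log_exp]
    nlinarith [Int.le_natAbs (a := log (w z))]
  choose m hm using fun i => hscale (b₀ i)
  let b : Basis (Fin n) F E := b₀.isUnitSMul (w := fun i => s ^ m i)
    fun i => isUnit_iff_ne_zero.2 (pow_ne_zero _ hs0)
  have hb : ∀ i, Low (ψ (b i)) 0 := fun i => by
    rw [low_psi_iff hψ, neg_zero, exp_zero, Basis.isUnitSMul_apply, Algebra.smul_def]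
    exact hm i
  let ι₂ : (Fin n → PowerSeries K) →ₗ[K] LaurentSeries L := ∑ i, transport φ hφs ψ (b i) ∘ₗ coeL K ∘ₗ LinearMap.proj i
  have hι₂ : ∀ p : (Fin n → PowerSeries K), ι₂ p = ψ (∑ i, e.symm (coeL K (p i)) • b i) := fun p => by
    simp only [ι₂, LinearMap.sum_apply, LinearMap.comp_apply, LinearMap.proj_apply, map_sum]
    rfl
  have hlow : ∀ p : (Fin n → PowerSeries K), Low (ι₂ p) 0 := fun p => by
    rw [hι₂, map_sum]
    intro i hi
    rw [HahnSeries.coeff_sum]
    refine Finset.sum_eq_zero fun l _ => ?_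
    rw [Algebra.smul_def, map_mul]
    refine ((show Low (ψ (algebraMap F E (e.symm (coeL K (p l))))) 0 from ?_).mul (hb l)) i (by simpa using hi)
    rw [low_psi_iff hψ, neg_zero, exp_zero, val_le_one_iff hφ]
    rw [show φ (e.symm (coeL K (p l))) = coeL K (p l) from e.apply_symm_apply _]
    exact low_coeL _
  let ι : PowerSeries L →ₗ[K] LaurentSeries L := (coeL L).restrictScalars K
  let j : (Fin n → PowerSeries K) →ₗ[K] PowerSeries L := (pos L).restrictScalars K ∘ₗ ι₂
  have hιj : ι ∘ₗ j = ι₂ := LinearMap.ext fun p => coeL_pos (hlow p)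
  have hj : Function.Injective j := fun p q hpq => by
    have h1 : ι₂ p = ι₂ q := by rw [← hιj]; exact congrArg ι hpq
    rw [hι₂, hι₂] at h1
    have h2 := ψ.toRingHom.injective h1
    funext i
    have h3 := congrArg (fun z => b.repr z i) h2
    simp only [Basis.repr_sum_self] at h3
    exact coeL_injective (e.symm.injective h3)
  -- finite codimension
  haveI : FiniteDimensional K (PowerSeries L ⧸ LinearMap.range j) := by
    obtain ⟨nn, g, hg⟩ := exists_span hφ hφs hψ
    have hden : ∀ a : F, ∃ M : ℕ, ∀ M', M ≤ M' → Low (φ (s ^ M' * a)) 0 := fun a => by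
      obtain ⟨M, hM⟩ := exists_low (φ a)
      refine ⟨M, fun M' hM' => ?_⟩
      rw [map_mul, map_pow, hφs1, HahnSeries.single_pow, one_pow]
      exact ((low_single (j := M' • (1 : ℤ)) (1 : K) (d := (M : ℤ)) (by simpa using hM')).mul hM).mono (by omega)
    choose Mm hMm using fun il : Fin n × Fin nn => hden (b.repr (g il.2) il.1)
    let M := Finset.univ.sup Mm
    let D : ℕ := (ψ (algebraMap F E (s ^ M))).order.natAbs
    let π : PowerSeries L →ₗ[K] (Fin D → L) := LinearMap.pi fun i => (PowerSeries.coeff (i : ℕ)).restrictScalars K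
    have hker : LinearMap.ker π ≤ LinearMap.range j := fun P hP => by
      set Sm : LaurentSeries L := ψ (algebraMap F E (s ^ M))
      have hSm : Sm ≠ 0 := by
        simp [Sm, hs0]
      have hzl : Low (coeL L P / Sm) 0 := by
        rw [low_iff_val, neg_zero, exp_zero, map_div₀]
        have hSne : Valued.v Sm ≠ 0 := by simpa using hSm
        rw [div_le_iff₀ (zero_lt_iff.2 hSne), one_mul]
        have hPD : Low (coeL L P) D := fun i hi => by
          rcases lt_or_ge i 0 with hi0 | hi0
          · exact low_coeL _ i hi0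
          · lift i to ℕ using hi0
            rw [coeff_coeL]
            exact congrFun (LinearMap.mem_ker.1 hP) ⟨i, by omega⟩
        by_contra hcon
        have hlt : Valued.v Sm < exp (-(D : ℤ)) := (not_le.1 hcon).trans_le ((low_iff_val _ _).1 hPD)
        have hl : Low Sm ((D : ℤ) + 1) := by
          rw [low_iff_val]
          rw [← exp_log hSne] at hlt ⊢
          rw [exp_lt_exp] at hlt
          rw [exp_le_exp]; omega
        have hDdef : D = Sm.order.natAbs := rfl
        exact hSm (HahnSeries.coeff_order_eq_zero.1 (hl _ (by omega)))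
      obtain ⟨G, hG⟩ := hg _ hzl
      let p : (Fin n → PowerSeries K) := fun i => pos K (φ (∑ l, e.symm (coeL K (G l)) * (s ^ M * b.repr (g l) i)))
      refine ⟨p, coeL_injective ?_⟩
      show coeL L (pos L (ι₂ p)) = coeL L P
      rw [coeL_pos (hlow p), hι₂]
      have hp : ∀ i, e.symm (coeL K (p i)) = ∑ l, e.symm (coeL K (G l)) * (s ^ M * b.repr (g l) i) := fun i => by
        simp only [p]
        rw [coeL_pos, show φ _ = e _ from rfl, e.symm_apply_apply]
        intro k hk
        rw [map_sum, HahnSeries.coeff_sum]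
        refine Finset.sum_eq_zero fun l _ => ?_
        rw [map_mul, show φ (e.symm (coeL K (G l))) = _ from e.apply_symm_apply _]
        exact ((low_coeL (G l)).mul (hMm (i, l) M (Finset.le_sup (f := Mm) (Finset.mem_univ _)))) k (by simpa using hk)
      simp only [hp, Finset.sum_smul]
      rw [Finset.sum_comm]
      simp only [mul_smul, ← Finset.smul_sum, Basis.sum_repr, map_sum]
      rw [← div_mul_cancel₀ (coeL L P) hSm, hG, Finset.sum_mul]
      refine Finset.sum_congr rfl fun l _ => ?_
      show ψ (e.symm _ • s ^ M • g l) = ψ (e.symm _ • g l) * Sm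
      simp only [Sm, ← map_mul, Algebra.smul_def]
      ring_nf
    haveI : FiniteDimensional K (PowerSeries L ⧸ LinearMap.ker π) :=
      Module.Finite.equiv (LinearMap.quotKerEquivRange π).symm
    exact Module.Finite.of_surjective (Submodule.factor hker) (Submodule.factor_surjective hker)
  -- multiplications and their lifts
  set X : LaurentSeries L := ψ (algebraMap F E x)
  set Y : LaurentSeries L := ψ y
  let mat : Matrix (Fin n) (Fin n) F := Algebra.leftMulMatrix b y
  let TK : F → (PowerSeries K →ₗ[K] PowerSeries K) := fun a => (That (φ a)).restrictScalars K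
  let T' : (Fin n → PowerSeries K) →ₗ[K] (Fin n → PowerSeries K) := ∑ i, ∑ l, LinearMap.single K (fun _ => PowerSeries K) i ∘ₗ TK (mat i l) ∘ₗ LinearMap.proj l
  let S' : (Fin n → PowerSeries K) →ₗ[K] (Fin n → PowerSeries K) := ∑ i, LinearMap.single K (fun _ => PowerSeries K) i ∘ₗ TK x ∘ₗ LinearMap.proj i
  have htr : ∀ (a : F) (z : E) (p : PowerSeries K),
      ψ (algebraMap F E a) * transport φ hφs ψ z (coeL K p) = transport φ hφs ψ z (φ a * coeL K p) := fun a z p => by
    show ψ _ * ψ (e.symm _ • z) = ψ (e.symm (φ a * _) • z)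
    rw [map_mul e.symm, show e.symm (φ a) = a from e.symm_apply_apply a, ← map_mul, Algebra.smul_def,
      Algebra.smul_def, map_mul (algebraMap F E), mul_assoc]
  have hYb : ∀ (l : Fin n) (p : PowerSeries K), Y * transport φ hφs ψ (b l) (coeL K p) =
      ∑ i, transport φ hφs ψ (b i) (φ (mat i l) * coeL K p) := fun l p => by
    show ψ y * ψ (e.symm _ • b l) = ∑ i, ψ (e.symm (φ (mat i l) * _) • b i)
    rw [← map_mul, ← map_sum, mul_smul_comm]
    congr 1
    conv_lhs => rw [← b.sum_repr (y * b l), Finset.smul_sum]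
    refine Finset.sum_congr rfl fun i _ => ?_
    rw [smul_smul, map_mul e.symm, show e.symm (φ (mat i l)) = mat i l from e.symm_apply_apply _,
      show mat i l = b.repr (y * b l) i from Algebra.leftMulMatrix_eq_repr_mul b y i l, mul_comm]
  have herr : ∀ a : F, FinRank ((mulF (φ a)).restrictScalars K ∘ₗ (coeL K).restrictScalars K -
      (coeL K).restrictScalars K ∘ₗ TK a) := fun a => isLift_That (k := K) (φ a)
  have hT' : IsLift (ι ∘ₗ j) ((mulF Y).restrictScalars K) T' := by
    show FinRank _
    rw [hιj]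
    have e1 : (mulF Y).restrictScalars K ∘ₗ ι₂ - ι₂ ∘ₗ T' = ∑ l, ∑ i, transport φ hφs ψ (b i) ∘ₗ
        ((mulF (φ (mat i l))).restrictScalars K ∘ₗ (coeL K).restrictScalars K -
          (coeL K).restrictScalars K ∘ₗ TK (mat i l)) ∘ₗ LinearMap.proj l := by
      refine LinearMap.ext fun p => ?_
      have hTp : ∀ i, T' p i = ∑ l, TK (mat i l) (p l) := fun i => by
        simp [T', LinearMap.sum_apply, Finset.sum_apply, Pi.single_apply, LinearMap.coe_single]
      simp only [LinearMap.sub_apply, LinearMap.comp_apply, LinearMap.sum_apply, LinearMap.proj_apply, map_sub,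
        Finset.sum_sub_distrib]
      congr 1
      · show Y * ι₂ p = _
        simp only [ι₂, LinearMap.sum_apply, LinearMap.comp_apply, LinearMap.proj_apply, Finset.mul_sum]
        exact Finset.sum_congr rfl fun l _ => hYb l (p l)
      · simp only [ι₂, LinearMap.sum_apply, LinearMap.comp_apply]
        refine (Finset.sum_congr rfl fun i _ => ?_).trans Finset.sum_comm
        show transport φ hφs ψ (b i) (coeL K (T' p i)) = _
        rw [hTp, map_sum, map_sum]
        rfl
    rw [e1]
    exact finRank_sum _ fun l _ => finRank_sum _ fun i _ => ((herr _).comp_right _).comp_left _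
  have hS' : IsLift (ι ∘ₗ j) ((mulF X).restrictScalars K) S' := by
    show FinRank _
    rw [hιj]
    have e1 : (mulF X).restrictScalars K ∘ₗ ι₂ - ι₂ ∘ₗ S' = ∑ i, transport φ hφs ψ (b i) ∘ₗ
        ((mulF (φ x)).restrictScalars K ∘ₗ (coeL K).restrictScalars K -
          (coeL K).restrictScalars K ∘ₗ TK x) ∘ₗ LinearMap.proj i := by
      refine LinearMap.ext fun p => ?_
      have hSp : ∀ i, S' p i = TK x (p i) := fun i => by
        simp [S', LinearMap.sum_apply, Finset.sum_apply, Pi.single_apply, LinearMap.coe_single]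
      simp only [LinearMap.sub_apply, LinearMap.comp_apply, LinearMap.sum_apply, LinearMap.proj_apply, map_sub,
        Finset.sum_sub_distrib]
      congr 1
      · show X * ι₂ p = _
        simp only [ι₂, LinearMap.sum_apply, LinearMap.comp_apply, LinearMap.proj_apply, Finset.mul_sum]
        exact Finset.sum_congr rfl fun l _ => htr x (b l) (p l)
      · simp only [ι₂, LinearMap.sum_apply, LinearMap.comp_apply]
        refine Finset.sum_congr rfl fun i _ => ?_
        show transport φ hφs ψ (b i) (coeL K (S' p i)) = _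
        rw [hSp]
        rfl
    rw [e1]
    exact finRank_sum _ fun i _ => ((herr _).comp_right _).comp_left _
  have hcomm : ((mulF Y).restrictScalars K) ∘ₗ ((mulF X).restrictScalars K) =
      ((mulF X).restrictScalars K) ∘ₗ ((mulF Y).restrictScalars K) :=
    LinearMap.ext fun z => (mul_left_comm Y X z : Y * (X * z) = X * (Y * z))
  have hmain : ftr (T' ∘ₗ S' - S' ∘ₗ T') = _ :=
    ftr_commutator_sublattice (ι := ι) (coeL_injective (F := L)) hj hcomm (isLift_That (k := K) Y) (isLift_That (k := K) X) hT' hS'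
  rw [ftr_That] at hmain
  show Algebra.trace K L (LocRes.res L (ψ y * LocRes.D L (ψ (algebraMap F E x)))) = _
  rw [← hmain]
  -- the block computation
  let Cm : Fin n → Fin n → (PowerSeries K →ₗ[K] PowerSeries K) := fun i l =>
    TK (mat i l) ∘ₗ TK x - TK x ∘ₗ TK (mat i l)
  have hC : ∀ i l, FinRank (Cm i l) := fun i l =>
    finRank_commutator (ι := (coeL K).restrictScalars K) coeL_injective
      (f := (mulF (φ (mat i l))).restrictScalars K) (g := (mulF (φ x)).restrictScalars K)
      (LinearMap.ext fun z => (mul_left_comm (φ (mat i l)) (φ x) z : _)) (herr _) (herr _)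
  have hblock : T' ∘ₗ S' - S' ∘ₗ T' =
      ∑ i, ∑ l, LinearMap.single K (fun _ => PowerSeries K) i ∘ₗ Cm i l ∘ₗ LinearMap.proj l := by
    refine LinearMap.ext fun p => funext fun r => ?_
    simp [T', S', Cm, LinearMap.sum_apply, Finset.sum_apply, Pi.single_apply, map_sum, Finset.sum_sub_distrib]
  rw [hblock, ftr_sum _ fun i _ => finRank_sum _ fun l _ => ((hC i l).comp_right _).comp_left _]
  show _ = LocRes.res K (φ (Algebra.trace F E y) * LocRes.D K (φ x))
  rw [Algebra.trace_eq_matrix_trace b, Matrix.trace, map_sum, Finset.sum_mul, map_sum]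
  refine Finset.sum_congr rfl fun i _ => ?_
  rw [ftr_sum _ fun l _ => ((hC i l).comp_right _).comp_left _]
  have hone : ∀ l, ftr (LinearMap.single K (fun _ => PowerSeries K) i ∘ₗ Cm i l ∘ₗ LinearMap.proj l) =
      ftr ((Cm i l ∘ₗ LinearMap.proj l) ∘ₗ LinearMap.single K (fun _ => PowerSeries K) i) := fun l =>
    (ftr_comm ((hC i l).comp_right _) (LinearMap.single K (fun _ => PowerSeries K) i)).symm
  rw [Finset.sum_eq_single i]
  · rw [hone, LinearMap.comp_assoc, LinearMap.proj_comp_single_same, LinearMap.comp_id]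
    refine (ftr_That (k := K) (φ (mat i i)) (φ x)).trans ?_
    rw [Algebra.trace_self_apply]
    rfl
  · intro l _ hl
    have : (LinearMap.proj l : (Fin n → PowerSeries K) →ₗ[K] PowerSeries K) ∘ₗ
        LinearMap.single K (fun _ => PowerSeries K) i = 0 := by
      refine LinearMap.ext fun q => ?_
      simp [Pi.single_eq_of_ne hl]
    rw [hone, LinearMap.comp_assoc, this, LinearMap.comp_zero, ftr_zero]
  · simp

end Trace

end Groth.Agent.FFLib
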