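import Groth.Agent.FFLib.Res.Global
import Groth.Agent.FFLib.GeometricPlace
import Mathlib.RingTheory.Trace.Basic
import Mathlib.RingTheory.Unramified.Field
import Mathlib.RingTheory.Kaehler.Basic

/-! The Weil differential of residues. -/

namespace Groth.Agent.FFLib

open FunFld WithZero IntermediateField

universe u v w

variable {k : Type u} {K : Type v} [Field k] [Field K] [Algebra k K]

theorem coeff_mul_low {F : Type*} [Field F] {x y : LaurentSeries F} {a b : ℤ} (hx : Low x a) (hy : Low y b) :
    (x * y).coeff (a + b) = x.coeff a * y.coeff b := by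
  have hx' : Low (x - HahnSeries.single a (x.coeff a)) (a + 1) := fun i hi => by
    rw [HahnSeries.coeff_sub, HahnSeries.coeff_single]
    rcases eq_or_lt_of_le (Int.lt_add_one_iff.mp hi) with rfl | h
    · simp
    · rw [hx i h, if_neg h.ne, sub_zero]
  have e : x * y = HahnSeries.single a (x.coeff a) * y + (x - HahnSeries.single a (x.coeff a)) * y := by ring
  rw [e, HahnSeries.coeff_add, (hx'.mul hy) _ (by omega), add_zero, HahnSeries.coeff_single_mul,
    add_sub_cancel_left]

theorem mul_mem_adele' (hF : IsFF k K) (u : K) {a : Place k K → K} (ha : a ∈ adele k K) :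
    (fun P => a P * u) ∈ adele k K := by
  have h := mul_mem_adele hF u a ha
  rwa [show u • a = fun P => a P * u from funext fun P => mul_comm _ _] at h

theorem single_mem_adele (P : Place k K) (x : K) [DecidableEq (Place k K)] :
    (Pi.single P x : Place k K → K) ∈ adele k K :=
  mem_adele.mpr ((Set.finite_singleton P).subset fun Q hQ => by
    by_contra h
    exact hQ (by simp [show Q ≠ P from h]))

/-- An additive map with the Leibniz rule vanishing on constants and on a separating element is zero. -/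
theorem leibniz_eq_zero {L : Type*} [Field L] (ψ : K →+* L) (f : K →+ L)
    (hmul : ∀ a b, f (a * b) = ψ a * f b + ψ b * f a) (hk : ∀ c : k, f (algebraMap k K c) = 0)
    {v : K} (hsep : Algebra.IsSeparable k⟮v⟯ K) (hv : f v = 0) (y : K) : f y = 0 := by
  have hone : f 1 = 0 := by rw [← map_one (algebraMap k K)]; exact hk 1
  have hM : ∀ m ∈ k⟮v⟯, f m = 0 := by
    intro m hm
    induction hm using IntermediateField.adjoin_induction with
    | mem a ha => rw [Set.mem_singleton_iff.mp ha]; exact hv
    | algebraMap c => exact hk c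
    | add a b _ _ ha hb => rw [map_add, ha, hb, add_zero]
    | inv a _ ha =>
      rcases eq_or_ne a 0 with rfl | h0
      · simp
      have := hmul a a⁻¹
      rw [mul_inv_cancel₀ h0, hone, ha, mul_zero, add_zero] at this
      exact (mul_eq_zero.mp this.symm).resolve_left ((map_ne_zero ψ).mpr h0)
    | mul a b _ _ ha hb => rw [hmul, ha, hb, mul_zero, mul_zero, add_zero]
  have hpow : ∀ n : ℕ, f (y ^ n) = (n : L) * ψ (y ^ (n - 1)) * f y := by
    intro n
    induction n with
    | zero => simpa using hone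
    | succ n ih =>
      rw [pow_succ, hmul, ih, Nat.add_sub_cancel, Nat.cast_succ]
      rcases n with _ | n
      · simp
      · rw [Nat.add_sub_cancel, pow_succ y n, map_mul]
        ring
  have hpoly : ∀ q : Polynomial k⟮v⟯,
      f (Polynomial.aeval y q) = ψ (Polynomial.aeval y (Polynomial.derivative q)) * f y := by
    intro q
    induction q using Polynomial.induction_on' with
    | add a b ha hb => rw [map_add, map_add, ha, hb, Polynomial.derivative_add, map_add, map_add, add_mul]
    | monomial n c =>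
      rw [Polynomial.derivative_monomial, Polynomial.aeval_monomial, Polynomial.aeval_monomial, hmul, hpow,
        show f (algebraMap k⟮v⟯ K c) = 0 from hM c c.2, mul_zero, add_zero, map_mul, map_mul, map_natCast]
      simp only [map_mul, map_natCast]
      ring
  have hs := (Algebra.IsSeparable.isSeparable k⟮v⟯ y)
  have h := hpoly (minpoly k⟮v⟯ y)
  rw [minpoly.aeval, map_zero] at h
  exact (mul_eq_zero.mp h.symm).resolve_left ((map_ne_zero ψ).mpr (hs.aeval_derivative_ne_zero (minpoly.aeval _ y)))

/-- Nonzero differential means separating. -/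
theorem separating_of_D_ne (hK : IsFunctionField k K) (hg : IsGeometric k K) {v : K}
    (hv : KaehlerDifferential.D k K v ≠ 0) : Transcendental k v ∧ Algebra.IsSeparable k⟮v⟯ K := by
  have htr : Transcendental k v := fun h => by
    obtain ⟨c, rfl⟩ := hK.2 v h
    exact hv (Derivation.map_algebraMap _ c)
  refine ⟨htr, ?_⟩
  have := IsFF.finite_adjoin hK.1 htr
  obtain h0 | ⟨p, hp, hpk⟩ := CharP.exists' k
  · have := h0
    have : CharZero k⟮v⟯ := charZero_of_injective_algebraMap (algebraMap k k⟮v⟯).injective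
    infer_instance
  · have : CharP K p := charP_of_injective_algebraMap (algebraMap k K).injective p
    obtain ⟨x, hx, hsep⟩ := exists_separating_element hK hg
    exact isSeparable_of_notMem p hK hx hsep fun hm => hv (D_eq_zero_of_mem p hm)

variable {F : Type w} [Field F] [Algebra k F]

/-- The derivative read through an expansion. -/
noncomputable def dExp (φ : K →ₐ[k] LaurentSeries F) : K →+ LaurentSeries F where
  toFun y := LocRes.D F (φ y)
  map_zero' := by rw [map_zero, map_zero]
  map_add' a b := by rw [map_add, map_add]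

theorem dExp_mul (φ : K →ₐ[k] LaurentSeries F) (a b : K) :
    dExp φ (a * b) = φ a * dExp φ b + φ b * dExp φ a := by
  show LocRes.D F (φ (a * b)) = _
  rw [map_mul, Derivation.leibniz, smul_eq_mul, smul_eq_mul]
  rfl

theorem dExp_const (φ : K →ₐ[k] LaurentSeries F) (c : k) : dExp φ (algebraMap k K c) = 0 := by
  show LocRes.D F (φ (algebraMap k K c)) = 0
  rw [LocRes.map_algebraMap, LocRes.D_apply, LocRes.derivative_C]

section AtPlace

variable {P : Place k K} {φ : K →ₐ[k] LaurentSeries F} (hφ : LocRes.IsExpansionAt P.1 φ)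
include hφ

theorem coeff_dExp_unif {t : K} (ht : P.1 t = exp (-1 : ℤ)) :
    Low (φ t) 1 ∧ (dExp φ t).coeff 0 ≠ 0 := by
  have h1 : Low (φ t) 1 := (low_map_iff hφ t 1).mpr ht.le
  refine ⟨h1, fun h0 => ?_⟩
  have h : (φ t).coeff 1 = 0 := by
    have : (LocRes.D F (φ t)).coeff 0 = 0 := h0
    rwa [LocRes.D_coeff, zero_add, one_smul] at this
  have := (low_map_iff hφ t 2).mp fun i hi => by
    rcases eq_or_lt_of_le (Int.lt_add_one_iff.mp hi : i ≤ 1) with rfl | hlt
    · exact h
    · exact h1 i hlt
  rw [ht, exp_le_exp] at this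
  omega

variable (hK : IsFunctionField k K) (hg : IsGeometric k K) {v : K}
  (hv : KaehlerDifferential.D k K v ≠ 0)
include hK hg hv

theorem dExp_ne_zero : dExp φ v ≠ 0 := by
  intro h
  obtain ⟨t, ht⟩ := hφ.2.2
  refine (coeff_dExp_unif hφ ht).2 ?_
  rw [leibniz_eq_zero (k := k) (φ : K →+* LaurentSeries F) (dExp φ) (dExp_mul φ) (dExp_const φ)
    (separating_of_D_ne hK hg hv).2 h t, HahnSeries.coeff_zero]

/-- The coefficient field of an expansion is separable. -/
theorem coeffField_separable [FiniteDimensional k F] : Algebra.IsSeparable k F := by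
  by_contra hsep
  have hns : ¬ Subsingleton (Ω[F⁄k]) := fun h => hsep
    (haveI : Algebra.FormallyUnramified k F := ⟨h⟩; Algebra.FormallyUnramified.isSeparable k F)
  rw [not_subsingleton_iff_nontrivial] at hns
  obtain ⟨w, hw⟩ := exists_ne (0 : Ω[F⁄k])
  obtain ⟨l, hl⟩ := not_forall.mp fun h => hw ((Module.forall_dual_apply_eq_zero_iff F w).mp h)
  let δ : Derivation k F F := l.compDer (KaehlerDifferential.D k F)
  obtain ⟨a, ha⟩ : ∃ a, δ a ≠ 0 := by
    by_contra! hall
    refine hl ?_
    have : l = 0 := LinearMap.ext_on_range (v := KaehlerDifferential.D k F)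
      (KaehlerDifferential.span_range_derivation k F) fun y => (hall y).trans (LinearMap.zero_apply _).symm
    rw [this, LinearMap.zero_apply]
  -- coefficientwise extension of the derivation
  let Δ : LaurentSeries F → LaurentSeries F := fun z =>
    ⟨fun i => δ (z.coeff i), z.isPWO_support.mono fun i hi h => hi (by
      show δ (z.coeff i) = 0
      rw [show z.coeff i = 0 from h, map_zero])⟩
  have hsub : ∀ z, (Δ z).support ⊆ z.support := fun z i hi h => hi (by
    show δ (z.coeff i) = 0
    rw [show z.coeff i = 0 from h, map_zero])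
  have hΔmul : ∀ x y, Δ (x * y) = x * Δ y + y * Δ x := by
    intro x y
    ext i
    rw [HahnSeries.coeff_add, mul_comm y (Δ x), HahnSeries.coeff_mul_right' y.isPWO_support (hsub y),
      HahnSeries.coeff_mul_left' x.isPWO_support (hsub x)]
    show δ ((x * y).coeff i) = _
    rw [HahnSeries.coeff_mul, map_sum, ← Finset.sum_add_distrib]
    exact Finset.sum_congr rfl fun ij _ => by
      rw [Derivation.leibniz, smul_eq_mul, smul_eq_mul, mul_comm (y.coeff ij.2)]
  have hΔC : ∀ c : k, Δ (φ (algebraMap k K c)) = 0 := fun c => by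
    ext i
    show δ ((φ (algebraMap k K c)).coeff i) = 0
    rw [LocRes.map_algebraMap, HahnSeries.C_apply, HahnSeries.coeff_single]
    split_ifs
    · exact δ.map_algebraMap c
    · exact map_zero δ
  obtain ⟨t, ht⟩ := hφ.2.2
  obtain ⟨hlt, ht0⟩ := coeff_dExp_unif hφ ht
  let c := Δ (φ v) / dExp φ v
  let f : K →+ LaurentSeries F :=
    { toFun := fun y => Δ (φ y) - c * dExp φ y
      map_zero' := by ext i; simp [Δ]
      map_add' := fun a b => by
        rw [map_add, map_add, show Δ (φ a + φ b) = Δ (φ a) + Δ (φ b) from HahnSeries.ext (funext fun i => map_add δ _ _)]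
        ring }
  have hf : ∀ y, f y = 0 := leibniz_eq_zero (k := k) (φ : K →+* LaurentSeries F) f (fun a b => by
      show Δ (φ (a * b)) - c * dExp φ (a * b) = φ a * (Δ (φ b) - c * dExp φ b) + φ b * (Δ (φ a) - c * dExp φ a)
      rw [map_mul, hΔmul, dExp_mul]; ring)
    (fun c' => by
      show Δ (φ (algebraMap k K c')) - c * dExp φ (algebraMap k K c') = 0
      rw [hΔC, dExp_const, mul_zero, sub_zero])
    (separating_of_D_ne hK hg hv).2 (by
      show Δ (φ v) - c * dExp φ v = 0
      rw [div_mul_cancel₀ _ (dExp_ne_zero hφ hK hg hv), sub_self])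
  have hc : Low c 1 := by
    have h : c * dExp φ t = Δ (φ t) := (sub_eq_zero.mp (hf t)).symm
    have hd : Valued.v (dExp φ t) = 1 := by
      refine le_antisymm (le_of_le_of_eq ((low_iff_val (dExp φ t) (1 - 1)).mp hlt.deriv) (by rw [sub_self, neg_zero, exp_zero]))
        (le_of_not_gt fun hl => ht0 ?_)
      have : Low (dExp φ t) 1 := by
        rw [low_iff_val]
        revert hl
        generalize Valued.v (dExp φ t) = z
        intro hl
        rcases eq_or_ne z 0 with rfl | hz
        · exact zero_le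
        · obtain ⟨m, rfl⟩ : ∃ m, z = exp m := ⟨log z, (exp_log hz).symm⟩
          rw [← exp_zero, exp_lt_exp] at hl
          rw [exp_le_exp]; omega
      exact this 0 (by norm_num)
    rw [low_iff_val]
    have hle : Valued.v (Δ (φ t)) ≤ exp (-(1 : ℤ)) := (low_iff_val _ _).mp fun i hi => by
      show δ ((φ t).coeff i) = 0
      rw [hlt i hi, map_zero]
    rwa [← h, map_mul, hd, mul_one] at hle
  obtain ⟨y, hy, hya⟩ := hφ.2.1 a
  refine ha ?_
  have h : Δ (φ y) = c * dExp φ y := sub_eq_zero.mp (hf y)
  have := congrArg (fun z : LaurentSeries F => z.coeff 0) h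
  rw [← hya]
  refine this.trans ?_
  obtain ⟨G, hG⟩ := (LaurentSeries.val_le_one_iff_eq_coe F (φ y)).mp ((hφ.1 y).trans_le hy)
  refine (hc.mul (?_ : Low (dExp φ y) 0)) 0 (by norm_num)
  show Low (LocRes.D F (φ y)) 0
  rw [← hG, LocRes.D_coe]
  exact low_coe _

omit hg hv hK in
/-- Nondegeneracy of the local residue pairing, for a separable coefficient field. -/
theorem exists_locRes_ne_of_sep [FiniteDimensional k F] [Algebra.IsSeparable k F] (hd : dExp φ v ≠ 0)
    {u : K} (hu : u ≠ 0) :
    ∃ a : K, P.1 a ≤ exp (1 + LocRes.ordDiff φ u v) ∧ LocRes.locRes φ (a * u) v ≠ 0 := by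
  obtain ⟨c, hc⟩ := Algebra.trace_surjective k F 1
  set z := φ u * dExp φ v
  have hz : z ≠ 0 := mul_ne_zero ((map_ne_zero φ).mpr hu) hd
  set d := LocRes.ordDiff φ u v
  have hzv : Valued.v z = exp (-d) := by
    show _ = exp (- -log (Valued.v z))
    rw [neg_neg, exp_log ((map_ne_zero _).mpr hz)]
  have hzl : Low z d := (low_iff_val _ _).mpr hzv.le
  have hzc : z.coeff d ≠ 0 := fun h0 => by
    have : Low z (d + 1) := fun i hi => by
      rcases eq_or_lt_of_le (Int.lt_add_one_iff.mp hi) with rfl | hlt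
      · exact h0
      · exact hzl i hlt
    rw [low_iff_val, hzv, exp_le_exp] at this
    omega
  obtain ⟨t, ht⟩ := hφ.2.2
  set e : ℤ := -1 - d
  have hs : P.1 (t ^ e) = exp (-e) := by rw [map_zpow₀, ht, ← exp_zsmul]; congr 1; simp
  have hls : Low (φ (t ^ e)) e := (low_map_iff hφ _ _).mpr hs.le
  have hse : (φ (t ^ e)).coeff e ≠ 0 := fun h0 => by
    have : Low (φ (t ^ e)) (e + 1) := fun i hi => by
      rcases eq_or_lt_of_le (Int.lt_add_one_iff.mp hi) with rfl | hlt
      · exact h0
      · exact hls i hlt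
    rw [low_map_iff hφ, hs, exp_le_exp] at this
    omega
  obtain ⟨f, hf, hf0⟩ := hφ.2.1 (c / ((φ (t ^ e)).coeff e * z.coeff d))
  refine ⟨f * t ^ e, ?_, ?_⟩
  · rw [map_mul, hs]
    exact (mul_le_of_le_one_left' hf).trans (by rw [exp_le_exp]; omega)
  · have hcoef : LocRes.resExp φ (f * t ^ e * u) v = c := by
      show (φ (f * t ^ e * u) * dExp φ v).coeff (-1) = c
      rw [map_mul, map_mul, show φ f * φ (t ^ e) * φ u * dExp φ v = φ f * (φ (t ^ e) * z) by ring,
        show (-1 : ℤ) = 0 + (e + d) by omega,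
        coeff_mul_low ((low_map_zero_iff hφ f).mpr hf) (hls.mul hzl), coeff_mul_low hls hzl,
        hf0, div_mul_cancel₀ _ (mul_ne_zero hse hzc)]
    rw [LocRes.locRes, hcoef, hc]
    exact one_ne_zero

/-- Nondegeneracy of the local residue pairing. -/
theorem exists_locRes_ne [FiniteDimensional k F] {u : K} (hu : u ≠ 0) :
    ∃ a : K, P.1 a ≤ exp (1 + LocRes.ordDiff φ u v) ∧ LocRes.locRes φ (a * u) v ≠ 0 := by
  have := coeffField_separable hφ hK hg hv
  exact exists_locRes_ne_of_sep hφ (dExp_ne_zero hφ hK hg hv) hu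

omit hg hv hK in
theorem locRes_eq_zero_of_le {a u : K} (h : P.1 a ≤ exp (LocRes.ordDiff φ u v)) :
    LocRes.locRes φ (a * u) v = 0 := by
  rw [LocRes.locRes]
  have : LocRes.resExp φ (a * u) v = 0 := by
    show (φ (a * u) * dExp φ v).coeff (-1) = 0
    rw [map_mul, mul_assoc]
    rcases eq_or_ne (φ u * dExp φ v) 0 with hz | hz
    · rw [hz, mul_zero, HahnSeries.coeff_zero]
    have hzl : Low (φ u * dExp φ v) (LocRes.ordDiff φ u v) := by
      rw [low_iff_val]
      show _ ≤ exp (- -log (Valued.v (φ u * dExp φ v)))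
      rw [neg_neg, exp_log ((map_ne_zero _).mpr hz)]
    exact (((low_map_iff hφ a _).mpr (by rwa [neg_neg])).mul hzl) (-1) (by omega)
  rw [this, map_zero]

end AtPlace

theorem resExp_smul (φ : K →ₐ[k] LaurentSeries F) (c : k) (x v : K) :
    LocRes.resExp φ (c • x) v = c • LocRes.resExp φ x v := by
  show (φ (c • x) * dExp φ v).coeff (-1) = c • (φ x * dExp φ v).coeff (-1)
  rw [Algebra.smul_def, map_mul, LocRes.map_algebraMap, mul_assoc, HahnSeries.C_mul_eq_smul,
    HahnSeries.coeff_smul, smul_eq_mul, ← Algebra.smul_def]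

/-- The local residue as a linear form. -/
noncomputable def locResL (φ : K →ₐ[k] LaurentSeries F) (v : K) : K →ₗ[k] k where
  toFun x := LocRes.locRes φ x v
  map_add' x y := by
    simp only [LocRes.locRes, LocRes.resExp, map_add, add_mul]
  map_smul' c x := by
    rw [LocRes.locRes, resExp_smul, map_smul]
    rfl

section Global

variable (hK : IsFunctionField k K) (hg : IsGeometric k K) (F : Place k K → Type w) [∀ P, Field (F P)]
  [∀ P, Algebra k (F P)] [∀ P, FiniteDimensional k (F P)] (φ : ∀ P, K →ₐ[k] LaurentSeries (F P))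
  (hφ : ∀ P, LocRes.IsExpansionAt P.1 (φ P))

include hK hφ in
/-- The residue differential as a form on adeles. -/
noncomputable def resW (u v : K) : Module.Dual k (adele k K) where
  toFun a := ∑ᶠ P, LocRes.locRes (φ P) (a.1 P * u) v
  map_add' a b := by
    rw [← finsum_add_distrib]
    · exact finsum_congr fun P => by
        rw [Submodule.coe_add, Pi.add_apply, add_mul]; exact map_add (locResL (φ P) v) _ _
    · exact finite_locRes hK F φ hφ _ (mul_mem_adele' hK.1 u a.2) v
    · exact finite_locRes hK F φ hφ _ (mul_mem_adele' hK.1 u b.2) v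
  map_smul' c a := by
    rw [RingHom.id_apply, smul_finsum]
    exact finsum_congr fun P => by
      rw [Submodule.coe_smul, Pi.smul_apply, smul_mul_assoc]; exact map_smul (locResL (φ P) v) _ _

include hK hφ

omit [∀ P, FiniteDimensional k (F P)] in
theorem finite_support_resW (u v : K) (a : adele k K) :
    (Function.support fun P => LocRes.locRes (φ P) (a.1 P * u) v).Finite :=
  finite_locRes hK F φ hφ _ (mul_mem_adele' hK.1 u a.2) v

theorem resW_mem_WD {u v : K} {D : Divisor k K} (hD : ∀ P, D P ≤ LocRes.ordDiff (φ P) u v) :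
    resW hK F φ hφ u v ∈ WD D := by
  refine mem_WD.mpr fun a ha => ?_
  obtain ⟨y, hy, z, ⟨x, rfl⟩, he⟩ := Submodule.mem_sup.mp ha
  show ∑ᶠ P, LocRes.locRes (φ P) (a.1 P * u) v = 0
  have : ∀ P, LocRes.locRes (φ P) (a.1 P * u) v = LocRes.locRes (φ P) (x * u) v := fun P => by
    have e : a.1 P * u = y P * u + x * u := by rw [← he, Pi.add_apply, diag_apply, add_mul]
    rw [e]
    refine (map_add (locResL (φ P) v) _ _).trans ?_
    show LocRes.locRes (φ P) (y P * u) v + _ = _
    rw [locRes_eq_zero_of_le (hφ P) ((hy P).trans (exp_le_exp.mpr (hD P))), zero_add]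
    rfl
  rw [finsum_congr this]
  exact sum_locRes hK F φ hφ (x * u) v

theorem isWeil_resW (u v : K) : IsWeil (resW hK F φ hφ u v) := by
  classical
  have hbad : ∀ x : K, {P : Place k K | ¬ P.1 x ≤ 1}.Finite := fun x =>
    mem_adele.mp (diag_mem_adele hK.1 ⟨x, rfl⟩)
  let s := ((hbad u).union (hbad v)).toFinset
  let D : Divisor k K := Finsupp.onFinset s
    (fun P => if P ∈ s then min (LocRes.ordDiff (φ P) u v) 0 else 0) fun P h => by
      by_contra hs
      exact h (if_neg hs)
  refine ⟨D, resW_mem_WD hK F φ hφ fun P => ?_⟩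
  show (if P ∈ s then min (LocRes.ordDiff (φ P) u v) 0 else 0) ≤ _
  split_ifs with h
  · exact min_le_left _ _
  · simp only [s, Set.Finite.mem_toFinset, Set.mem_union, Set.mem_ofPred_eq, not_or, not_not] at h
    obtain ⟨G, hG⟩ := (LaurentSeries.val_le_one_iff_eq_coe _ (φ P v)).mp (((hφ P).1 v).trans_le h.2)
    have hl : Low (φ P u * LocRes.D (F P) (φ P v)) (0 + 0) :=
      ((low_map_zero_iff (hφ P) u).mpr h.1).mul (by rw [← hG, LocRes.D_coe]; exact low_coe _)
    rw [add_zero, low_iff_val, neg_zero, exp_zero] at hl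
    rw [LocRes.ordDiff, LocRes.vDiff, Left.nonneg_neg_iff]
    rcases eq_or_ne (Valued.v (φ P u * LocRes.D (F P) (φ P v))) 0 with hz | hz
    · rw [hz, log_zero]
    · rw [← exp_le_exp, exp_log hz, exp_zero]; exact hl

include hg

theorem resW_ne_zero {u v : K} (hu : u ≠ 0) (hv : KaehlerDifferential.D k K v ≠ 0) :
    resW hK F φ hφ u v ≠ 0 := by
  classical
  obtain ⟨P⟩ := exists_place hK.1
  obtain ⟨a, -, ha⟩ := exists_locRes_ne (hφ P) hK hg hv hu
  intro h
  refine ha ?_
  have h0 := LinearMap.congr_fun h ⟨_, single_mem_adele P a⟩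
  change ∑ᶠ Q, LocRes.locRes (φ Q) ((Pi.single P a : Place k K → K) Q * u) v = 0 at h0
  rwa [finsum_eq_single _ P fun Q hQ => by
    rw [Pi.single_eq_of_ne hQ, zero_mul]; exact map_zero (locResL (φ Q) v), Pi.single_eq_same] at h0

theorem mem_WD_resW_iff {u v : K} (hu : u ≠ 0) (hv : KaehlerDifferential.D k K v ≠ 0) (D : Divisor k K) :
    resW hK F φ hφ u v ∈ WD D ↔ ∀ P, D P ≤ LocRes.ordDiff (φ P) u v := by
  classical
  refine ⟨fun h P => ?_, resW_mem_WD hK F φ hφ⟩
  by_contra hlt
  obtain ⟨a, ha, hne⟩ := exists_locRes_ne (hφ P) hK hg hv hu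
  refine hne ?_
  have hmem : (Pi.single P a : Place k K → K) ∈ SD D := Submodule.mem_sup_left fun Q => by
    rcases eq_or_ne Q P with rfl | hQ
    · rw [Pi.single_eq_same]; exact ha.trans (exp_le_exp.mpr (by omega))
    · rw [Pi.single_eq_of_ne hQ, map_zero]; exact zero_le
  have h0 := mem_WD.mp h ⟨_, single_mem_adele P a⟩ hmem
  change ∑ᶠ Q, LocRes.locRes (φ Q) ((Pi.single P a : Place k K → K) Q * u) v = 0 at h0
  rwa [finsum_eq_single _ P fun Q hQ => by
    rw [Pi.single_eq_of_ne hQ, zero_mul]; exact map_zero (locResL (φ Q) v), Pi.single_eq_same] at h0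

/-- The divisor of a differential. -/
theorem exists_div_resW {u v : K} (hu : u ≠ 0) (hv : KaehlerDifferential.D k K v ≠ 0) :
    ∃ C : Divisor k K, (∀ P, C P = LocRes.ordDiff (φ P) u v) ∧ IsDivOf (resW hK F φ hφ u v) C := by
  classical
  obtain ⟨C, hC⟩ := exists_isDivOf hK (isWeil_resW hK F φ hφ u v) (resW_ne_zero hK hg F φ hφ hu hv)
  have hle := (mem_WD_resW_iff hK hg F φ hφ hu hv C).mp ((hC C).mpr le_rfl)
  refine ⟨C, fun P => le_antisymm (hle P) ?_, hC⟩
  by_contra hlt
  have h := (hC (C + Finsupp.single P 1)).mp ((mem_WD_resW_iff hK hg F φ hφ hu hv _).mpr fun Q => by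
    rw [Finsupp.add_apply, Finsupp.single_apply]
    split_ifs with hQ
    · subst hQ; omega
    · simpa using hle Q) P
  rw [Finsupp.add_apply, Finsupp.single_eq_same] at h
  omega

theorem finite_ordDiff {u v : K} (hu : u ≠ 0) (hv : KaehlerDifferential.D k K v ≠ 0) :
    (Function.support fun P => LocRes.ordDiff (φ P) u v).Finite := by
  obtain ⟨C, hC, -⟩ := exists_div_resW hK hg F φ hφ hu hv
  simp_rw [← hC]
  exact C.hasFiniteSupport

end Global

end Groth.Agent.FFLib
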